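import Mathlib
import Cfsg.Prelude.Def_Involutions
import Cfsg.Prelude.Def_TwoFusion
import Cfsg.Agent.Lib.Invol.Sylow
import Cfsg.Agent.Lib.Invol.Closed
import Cfsg.Agent.Lib.Grp.Frattini

/-!
# A strongly closed 2-subgroup whose involution centralisers lie in a proper subgroup

The subgroup controls the fusion of the strongly closed subgroup and contains each of its
involutions with multiplicity one.
-/

set_option autoImplicit false

namespace Cfsg.Agent.Fus.SClosedSE

open Subgroup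

variable {G : Type*} [Group G] [Finite G]

/-- `R` is a Sylow 2-subgroup of `M`, both being subgroups of `G`. -/
def IsTwoSylowIn (R M : Subgroup G) : Prop :=
  R ≤ M ∧ IsPGroup 2 R ∧ ∀ Q ≤ M, IsPGroup 2 Q → ∃ m ∈ M, ∀ q ∈ Q, m * q * m⁻¹ ∈ R

theorem exists_twoSylowIn {R₀ M : Subgroup G} (h : R₀ ≤ M) (h0 : IsPGroup 2 R₀) :
    ∃ R, R₀ ≤ R ∧ IsTwoSylowIn R M := by
  haveI : Fact (Nat.Prime 2) := ⟨Nat.prime_two⟩
  obtain ⟨S, hS⟩ := (h0.comap_subtype (K := M)).exists_le_sylow
  refine ⟨(S : Subgroup ↥M).map M.subtype, fun x hx => ⟨⟨x, h hx⟩, hS hx, rfl⟩,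
    Subgroup.map_subtype_le _, S.isPGroup'.map _, fun Q hQ hQ2 => ?_⟩
  obtain ⟨m, hm⟩ := Invol.exists_conj_subset_sylow (hQ2.comap_subtype (K := M)) S
  exact ⟨m, m.2, fun q hq => ⟨_, hm ⟨q, hQ hq⟩ hq, rfl⟩⟩

theorem IsTwoSylowIn.card_le {R M Q : Subgroup G} (h : IsTwoSylowIn R M) (hQ : Q ≤ M)
    (hQ2 : IsPGroup 2 Q) : Nat.card Q ≤ Nat.card R := by
  obtain ⟨m, -, hm⟩ := h.2.2 Q hQ hQ2
  rw [← Subgroup.card_map_of_injective (K := Q) (f := (MulAut.conj m : G →* G)) (MulAut.conj m).injective]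
  refine Nat.card_le_card_of_injective _ (Subgroup.inclusion_injective (show
    Q.map (MulAut.conj m : G →* G) ≤ R from ?_))
  rintro _ ⟨q, hq, rfl⟩
  simpa using hm q hq

theorem IsTwoSylowIn.sylow {R M : Subgroup G} (h : IsTwoSylowIn R M) :
    ∃ S : Sylow 2 ↥M, (S : Subgroup ↥M) = R.subgroupOf M := by
  haveI : Fact (Nat.Prime 2) := ⟨Nat.prime_two⟩
  obtain ⟨S, hS⟩ := (h.2.1.comap_subtype (K := M)).exists_le_sylow
  refine ⟨S, (Subgroup.eq_of_le_of_card_ge hS ?_).symm⟩
  have h1 := h.card_le (Subgroup.map_subtype_le (S : Subgroup ↥M)) (S.isPGroup'.map M.subtype)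
  rw [Subgroup.card_map_of_injective M.subtype_injective] at h1
  exact h1.trans (Nat.card_congr (Subgroup.subgroupOfEquivOfLe h.1).toEquiv).ge

/-- A nontrivial subgroup normalised by a 2-group containing it has an involution central there. -/
theorem exists_central_invol {R E : Subgroup G} (hR : IsPGroup 2 R) (hER : E ≤ R)
    (hn : R ≤ Subgroup.normalizer (E : Set G)) (hE : E ≠ ⊥) :
    ∃ e ∈ E, orderOf e = 2 ∧ ∀ r ∈ R, r * e = e * r := by
  haveI : Fact (Nat.Prime 2) := ⟨Nat.prime_two⟩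
  haveI : Group.IsNilpotent R := hR.isNilpotent
  haveI : (E.subgroupOf R).Normal := Subgroup.normal_subgroupOf_of_le_normalizer hn
  set W := E.subgroupOf R ⊓ Subgroup.center R with hW
  have hW1 : W ≠ ⊥ := Grp.inf_center_ne_bot _ fun hb => hE (by
    rw [Subgroup.subgroupOf_eq_bot] at hb
    exact hb.eq_bot_of_le hER)
  obtain ⟨m, hm⟩ := IsPGroup.iff_card.1 (hR.to_subgroup W)
  have hdvd : 2 ∣ Nat.card W := by
    rcases m with _ | m
    · exact absurd (Subgroup.card_eq_one.1 (by simpa using hm)) hW1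
    · rw [hm]; exact dvd_pow_self 2 (Nat.succ_ne_zero m)
  obtain ⟨w, hw⟩ := exists_prime_orderOf_dvd_card' (G := W) 2 hdvd
  exact ⟨((w : R) : G), w.2.1, by rw [Subgroup.orderOf_coe, Subgroup.orderOf_coe, hw],
    fun r hr => congrArg Subtype.val (Subgroup.mem_center_iff.1 w.2.2 ⟨r, hr⟩)⟩

/-- A proper subgroup `D` of a 2-group `A` is properly contained in its normaliser in `A`. -/
theorem card_lt_inf_normalizer {A D : Subgroup G} (hA : IsPGroup 2 A) (hDA : D ≤ A)
    (h : D ≠ A) : Nat.card D < Nat.card ↥(A ⊓ Subgroup.normalizer (D : Set G)) := by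
  haveI : Fact (Nat.Prime 2) := ⟨Nat.prime_two⟩
  haveI : Group.IsNilpotent A := hA.isNilpotent
  have hne : D.subgroupOf A < ⊤ := lt_top_iff_ne_top.2 fun e =>
    h (le_antisymm hDA (Subgroup.subgroupOf_eq_top.1 e))
  obtain ⟨a, ha, haD⟩ := SetLike.exists_of_lt (Group.normalizerCondition_of_isNilpotent _ hne)
  have han : (a : G) ∈ Subgroup.normalizer (D : Set G) := by
    refine Subgroup.mem_normalizer_iff.2 fun x => ⟨fun hx => ?_, fun hx => ?_⟩
    · exact (Subgroup.mem_normalizer_iff.1 ha ⟨x, hDA hx⟩).1 hx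
    · have hxA : x ∈ A := by
        have := A.mul_mem (A.mul_mem (A.inv_mem a.2) (hDA hx)) a.2
        simpa [mul_assoc] using this
      exact (Subgroup.mem_normalizer_iff.1 ha ⟨x, hxA⟩).2 hx
  have hlt : D < A ⊓ Subgroup.normalizer (D : Set G) :=
    lt_of_le_of_ne (le_inf hDA Subgroup.le_normalizer) fun e =>
      haD (show (a : G) ∈ D from e ▸ Subgroup.mem_inf.2 ⟨a.2, han⟩)
  refine lt_of_le_of_ne (Nat.card_le_card_of_injective _ (Subgroup.inclusion_injective hlt.le))
    fun e => hlt.ne (Subgroup.eq_of_le_of_card_ge hlt.le e.ge)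

/-- The standing data: `A` strongly closed, `H` proper, containing the centralisers of the
involutions of `A` and the elements permuting them. -/
structure Hyp (P : Sylow 2 G) (A H : Subgroup G) : Prop where
  closed : Cfsg.IsStronglyClosed A (P : Subgroup G)
  ne : A ≠ ⊥
  top : H ≠ ⊤
  cent : ∀ a ∈ A, orderOf a = 2 → Subgroup.centralizer ({a} : Set G) ≤ H
  norm : ∀ g : G, (∀ a ∈ A, orderOf a = 2 → g * a * g⁻¹ ∈ A) → g ∈ H

/-- `x` is a conjugate of an involution of `A`. -/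
def IsAInvol (A : Subgroup G) (x : G) : Prop :=
  ∃ g : G, ∃ a ∈ A, orderOf a = 2 ∧ g * a * g⁻¹ = x

variable {P : Sylow 2 G} {A H : Subgroup G}

theorem IsAInvol.orderOf_eq {x : G} (h : IsAInvol A x) : orderOf x = 2 := by
  obtain ⟨g, a, -, ha, rfl⟩ := h
  rw [Invol.orderOf_conj_eq, ha]

theorem IsAInvol.of_mem {x : G} (h : x ∈ A) (h2 : orderOf x = 2) : IsAInvol A x :=
  ⟨1, x, h, h2, by group⟩

theorem IsAInvol.conj {x : G} (h : IsAInvol A x) (k : G) : IsAInvol A (k * x * k⁻¹) := by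
  obtain ⟨g, a, ha, ha2, rfl⟩ := h
  exact ⟨k * g, a, ha, ha2, by group⟩

theorem Hyp.mem_of_mem_sylow (h : Hyp P A H) {x : G} (hx : IsAInvol A x)
    (hxP : x ∈ (P : Subgroup G)) : x ∈ A := by
  obtain ⟨g, a, ha, -, rfl⟩ := hx
  exact h.closed.2 a ha g hxP

theorem Hyp.isPGroup (h : Hyp P A H) : IsPGroup 2 A :=
  P.isPGroup'.to_le h.closed.1

theorem Hyp.exists_central (h : Hyp P A H) :
    ∃ z ∈ A, orderOf z = 2 ∧ ∀ r ∈ (P : Subgroup G), r * z = z * r := by
  refine exists_central_invol P.isPGroup' h.closed.1 (fun r hr => ?_) h.ne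
  refine Subgroup.mem_normalizer_iff.2 fun x => ⟨fun hx => ?_, fun hx => ?_⟩
  · exact h.closed.2 x hx r (mul_mem (mul_mem hr (h.closed.1 hx)) (inv_mem hr))
  · have e : r⁻¹ * (r * x * r⁻¹) * r⁻¹⁻¹ = x := by group
    have := h.closed.2 _ hx r⁻¹
      (mul_mem (mul_mem (inv_mem hr) (h.closed.1 hx)) (inv_mem (inv_mem hr)))
    rwa [e] at this

theorem Hyp.sylow_le (h : Hyp P A H) : (P : Subgroup G) ≤ H := by
  obtain ⟨z, hz, hz2, hzc⟩ := h.exists_central
  exact fun r hr => h.cent z hz hz2 (Subgroup.mem_centralizer_singleton_iff.2 (hzc r hr))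

/-- An element mapping a nontrivial subgroup of `A` into `A` lies in `H`. -/
theorem Hyp.control_aux (h : Hyp P A H) : ∀ n : ℕ, ∀ D : Subgroup G, D ≤ A → D ≠ ⊥ →
    Nat.card A ≤ Nat.card D + n → ∀ g : G, (∀ d ∈ D, g * d * g⁻¹ ∈ A) → g ∈ H := by
  haveI : Fact (Nat.Prime 2) := ⟨Nat.prime_two⟩
  intro n
  induction n using Nat.strong_induction_on with
  | _ n ih =>
  intro D hDA hD1 hn g hg
  rcases eq_or_ne D A with rfl | hDne
  · exact h.norm g fun a ha _ => hg a ha
  have hA2 := h.isPGroup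
  have hlt : Nat.card D < Nat.card A := lt_of_le_of_ne
    (Nat.card_le_card_of_injective _ (Subgroup.inclusion_injective hDA))
    fun e => hDne (Subgroup.eq_of_le_of_card_ge hDA e.ge)
  -- larger subgroups are controlled
  have big : ∀ D' : Subgroup G, D' ≤ A → Nat.card D < Nat.card D' → ∀ y : G,
      (∀ d ∈ D', y * d * y⁻¹ ∈ (P : Subgroup G)) → y ∈ H := by
    intro D' hD' hc y hy
    refine ih (Nat.card A - Nat.card D') (by omega) D' hD' (fun e => ?_) (by omega) y
      fun d hd => h.closed.2 d (hD' hd) y (hy d hd)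
    rw [e, Subgroup.card_bot] at hc
    have : 0 < Nat.card D := Nat.card_pos
    omega
  -- a fully normalised conjugate
  let S : Set (Subgroup G) := {E | E ≤ A ∧ ∃ y : G, D.map (MulAut.conj y : G →* G) = E}
  obtain ⟨E, ⟨hEA, y₀, hy₀⟩, hmax⟩ := Set.exists_max_image S
    (fun E => Nat.card ↥((P : Subgroup G) ⊓ Subgroup.normalizer (E : Set G))) S.toFinite
    ⟨D, hDA, 1, Invol.map_conj_one D⟩
  have hcardE : Nat.card E = Nat.card D := by
    rw [← hy₀, Subgroup.card_map_of_injective (MulAut.conj y₀).injective]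
  set N := Subgroup.normalizer (E : Set G) with hN
  obtain ⟨R, hR₀, hR⟩ := exists_twoSylowIn (inf_le_right : (P : Subgroup G) ⊓ N ≤ N)
    (P.isPGroup'.to_le inf_le_left)
  have hER : E ≤ R :=
    (le_inf (hEA.trans h.closed.1) Subgroup.le_normalizer).trans hR₀
  have hRP : R = (P : Subgroup G) ⊓ N := by
    refine (Subgroup.eq_of_le_of_card_ge hR₀ ?_).symm
    obtain ⟨x, hx⟩ := Invol.exists_conj_subset_sylow hR.2.1 P
    have hmem : E.map (MulAut.conj x : G →* G) ∈ S := by
      refine ⟨?_, x * y₀, ?_⟩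
      · rintro _ ⟨e, he, rfl⟩
        simpa using h.closed.2 e (hEA he) x (hx e (hER he))
      · rw [← hy₀, Subgroup.map_map]
        congr 1
        ext; simp [mul_assoc]
    refine le_trans ?_ (hmax _ hmem)
    rw [← Subgroup.card_map_of_injective (K := R) (f := (MulAut.conj x : G →* G))
      (MulAut.conj x).injective]
    refine Nat.card_le_card_of_injective _ (Subgroup.inclusion_injective (show
      R.map (MulAut.conj x : G →* G) ≤ _ from le_inf ?_ ?_))
    · rintro _ ⟨r, hr, rfl⟩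
      exact hx r hr
    · exact (Subgroup.map_mono hR.1).trans (Subgroup.le_normalizer_map _)
  have hRP' : R ≤ (P : Subgroup G) := hRP.le.trans inf_le_left
  -- every conjugate of `E` in `A` is moved to `E` inside `H`
  have move : ∀ D' : Subgroup G, D' ≤ A → ∀ y : G, D'.map (MulAut.conj y : G →* G) = E →
      ∃ k ∈ N, k * y ∈ H := by
    intro D' hD' y hy
    have hc : Nat.card D' = Nat.card D := by
      rw [← hcardE, ← hy, Subgroup.card_map_of_injective (MulAut.conj y).injective]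
    have hQ : ((P : Subgroup G) ⊓ Subgroup.normalizer (D' : Set G)).map
        (MulAut.conj y : G →* G) ≤ N := by
      have := (Subgroup.map_mono (f := (MulAut.conj y : G →* G)) (inf_le_right :
        (P : Subgroup G) ⊓ Subgroup.normalizer (D' : Set G) ≤ _)).trans
        (Subgroup.le_normalizer_map _)
      rwa [hy] at this
    obtain ⟨k, hk, hkR⟩ := hR.2.2 _ hQ ((P.isPGroup'.to_le inf_le_left).map _)
    refine ⟨k, hk, big (A ⊓ Subgroup.normalizer (D' : Set G)) inf_le_left ?_ (k * y) fun d hd => ?_⟩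
    · rw [← hc]
      exact card_lt_inf_normalizer hA2 hD' fun e => by rw [e] at hc; omega
    · have := hkR (y * d * y⁻¹) ⟨d, ⟨h.closed.1 hd.1, hd.2⟩, by simp⟩
      refine hRP' ?_
      simpa [mul_assoc] using this
  -- the normaliser of `E`
  have hNH : N ≤ H := by
    obtain ⟨e, heE, he2, hec⟩ := exists_central_invol hR.2.1 hER hR.1 (fun e => by
      rw [e, Subgroup.card_bot] at hcardE
      exact hD1 (Subgroup.card_eq_one.1 hcardE.symm))
    set C : Set G := {x | x ∈ N ∧ ∃ a ∈ E, orderOf a = 2 ∧ x * a = a * x} with hC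
    set M := Subgroup.closure C with hM
    have hMN : M ≤ N := (Subgroup.closure_le _).2 fun x hx => hx.1
    have hMH : M ≤ H := (Subgroup.closure_le _).2 fun x ⟨_, a, ha, ha2, hxa⟩ =>
      h.cent a (hEA ha) ha2 (Subgroup.mem_centralizer_singleton_iff.2 hxa)
    have hRM : R ≤ M := fun r hr => Subgroup.subset_closure ⟨hR.1 hr, e, heE, he2, hec r hr⟩
    intro k hk
    have hkM : M.map (MulAut.conj k : G →* G) ≤ M := by
      rw [hM, MonoidHom.map_closure]
      refine Subgroup.closure_mono ?_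
      rintro _ ⟨x, ⟨hxN, a, ha, ha2, hxa⟩, rfl⟩
      refine ⟨by simpa using mul_mem (mul_mem hk hxN) (inv_mem hk), k * a * k⁻¹,
        (Subgroup.mem_normalizer_iff.1 hk a).1 ha, by rw [Invol.orderOf_conj_eq, ha2], ?_⟩
      simp only [MonoidHom.coe_coe, MulAut.conj_apply]
      calc k * x * k⁻¹ * (k * a * k⁻¹) = k * (x * a) * k⁻¹ := by group
        _ = k * (a * x) * k⁻¹ := by rw [hxa]
        _ = _ := by group
    obtain ⟨R₁, hRR₁, hR₁⟩ := exists_twoSylowIn hRM hR.2.1
    obtain rfl : R = R₁ := Subgroup.eq_of_le_of_card_ge hRR₁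
      (hR.card_le (hR₁.1.trans hMN) hR₁.2.1)
    obtain ⟨m, hm, hmR⟩ := hR₁.2.2 _ ((Subgroup.map_mono hR₁.1).trans hkM) (hR.2.1.map _)
    have hmk : m * k ∈ H := by
      refine big (A ⊓ N) inf_le_left ?_ (m * k) fun d hd => ?_
      · rw [← hcardE]
        exact card_lt_inf_normalizer hA2 hEA fun e => by rw [e] at hcardE; omega
      · have := hmR (k * d * k⁻¹) ⟨d, hR₀ ⟨h.closed.1 hd.1, hd.2⟩, by simp⟩
        refine hRP' ?_
        simpa [mul_assoc] using this
    have := mul_mem (inv_mem (hMH hm)) hmk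
    rwa [inv_mul_cancel_left] at this
  have step : ∀ D' : Subgroup G, D' ≤ A → ∀ y : G, D'.map (MulAut.conj y : G →* G) = E → y ∈ H :=
    fun D' hD' y hy => by
      obtain ⟨k, hk, hky⟩ := move D' hD' y hy
      have := mul_mem (inv_mem (hNH hk)) hky
      rwa [inv_mul_cancel_left] at this
  have h1 := step D hDA y₀ hy₀
  have h2 : y₀ * g⁻¹ ∈ H := by
    refine step (D.map (MulAut.conj g : G →* G)) ?_ _ ?_
    · rintro _ ⟨d, hd, rfl⟩
      simpa using hg d hd
    · rw [← hy₀, Subgroup.map_map]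
      congr 1
      ext; simp [mul_assoc]
  have := mul_mem (inv_mem h1) h2
  rw [inv_mul_cancel_left] at this
  exact inv_mem_iff.1 this

theorem Hyp.control (h : Hyp P A H) {a g : G} (ha : a ∈ A) (ha1 : a ≠ 1)
    (hg : g * a * g⁻¹ ∈ A) : g ∈ H := by
  refine h.control_aux (Nat.card A) (Subgroup.zpowers a) (Subgroup.zpowers_le.2 ha)
    (fun e => ha1 (Subgroup.mem_bot.1 (e ▸ Subgroup.mem_zpowers a))) (by omega) g fun d hd => ?_
  obtain ⟨i, rfl⟩ := Subgroup.mem_zpowers_iff.1 hd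
  rw [← conj_zpow]
  exact zpow_mem hg i

/-- An involution of `A` has no conjugate in `H` under an element outside `H`. -/
theorem Hyp.fix (h : Hyp P A H) {a g : G} (ha : a ∈ A) (ha2 : orderOf a = 2)
    (hg : g * a * g⁻¹ ∈ H) : g ∈ H := by
  haveI : Fact (Nat.Prime 2) := ⟨Nat.prime_two⟩
  obtain ⟨m, hm⟩ := Invol.exists_conj_mem_sylow (x := (⟨g * a * g⁻¹, hg⟩ : ↥H)) (n := 1)
    (by rw [Subgroup.orderOf_mk, Invol.orderOf_conj_eq, ha2, pow_one]) (P.subtype h.sylow_le)
  have hmP : (m : G) * g * a * ((m : G) * g)⁻¹ ∈ (P : Subgroup G) := by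
    have : (m : G) * (g * a * g⁻¹) * (m : G)⁻¹ ∈ (P : Subgroup G) := hm
    simpa [mul_assoc] using this
  have := h.control ha (Invol.ne_one_of_orderOf_two ha2) (h.closed.2 a ha _ hmP)
  simpa using mul_mem (inv_mem m.2) this

theorem IsAInvol.fix (h : Hyp P A H) {x g : G} (hx : IsAInvol A x) (hxH : x ∈ H)
    (hgx : g⁻¹ * x * g ∈ H) : g ∈ H := by
  obtain ⟨k, a, ha, ha2, rfl⟩ := hx
  have hk := h.fix ha ha2 hxH
  have hgk : g⁻¹ * k ∈ H := h.fix ha ha2 (by simpa [mul_assoc] using hgx)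
  have := mul_mem hgk (inv_mem hk)
  rw [mul_inv_cancel_right] at this
  exact inv_mem_iff.1 this

theorem IsAInvol.cent (h : Hyp P A H) {x : G} (hx : IsAInvol A x) (hxH : x ∈ H) :
    Subgroup.centralizer ({x} : Set G) ≤ H := by
  obtain ⟨k, a, ha, ha2, rfl⟩ := hx
  have hk := h.fix ha ha2 hxH
  intro c hc
  rw [Subgroup.mem_centralizer_singleton_iff] at hc
  have : k⁻¹ * c * k ∈ H := h.cent a ha ha2 (Subgroup.mem_centralizer_singleton_iff.2 (by
    calc k⁻¹ * c * k * a = k⁻¹ * (c * (k * a * k⁻¹)) * k := by group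
      _ = k⁻¹ * (k * a * k⁻¹ * c) * k := by rw [hc]
      _ = _ := by group))
  simpa [mul_assoc] using mul_mem (mul_mem hk this) (inv_mem hk)

/-- The product of two commuting distinct conjugates of involutions of `A` is another. -/
theorem IsAInvol.mul (h : Hyp P A H) {x y : G} (hx : IsAInvol A x) (hy : IsAInvol A y)
    (hc : x * y = y * x) (hne : x ≠ y) : IsAInvol A (x * y) := by
  haveI : Fact (Nat.Prime 2) := ⟨Nat.prime_two⟩
  have hx2 := hx.orderOf_eq
  have hy2 := hy.orderOf_eq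
  have hxy : orderOf (x * y) = 2 := Invol.orderOf_two_iff.2 ⟨by
    calc x * y * (x * y) = x * (y * x) * y := by group
      _ = x * x * (y * y) := by rw [← hc]; group
      _ = 1 := by rw [Invol.mul_self_of_orderOf_two hx2, Invol.mul_self_of_orderOf_two hy2, one_mul],
    Invol.mul_ne_one_of_ne hx2 hne⟩
  obtain ⟨g, hg⟩ := Invol.exists_conj_subset_sylow
    (Invol.isPGroup_closure_pair hx2 hy2 (a := 1) (by rw [hxy, pow_one])) P
  have h1 := h.mem_of_mem_sylow (hx.conj g) (hg x Invol.left_mem_closure_pair)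
  have h2 := h.mem_of_mem_sylow (hy.conj g) (hg y Invol.right_mem_closure_pair)
  refine ⟨g⁻¹, g * (x * y) * g⁻¹, ?_, by rw [Invol.orderOf_conj_eq, hxy], by group⟩
  simpa [mul_assoc] using mul_mem h1 h2

/-- The data may be conjugated by elements of `H`. -/
theorem Hyp.conj (h : Hyp P A H) {k : G} (hk : k ∈ H) :
    Hyp (k • P) (A.map (MulAut.conj k : G →* G)) H := by
  have hP : ∀ w : G, w ∈ ((k • P : Sylow 2 G) : Subgroup G) ↔ k⁻¹ * w * k ∈ (P : Subgroup G) := by
    intro w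
    rw [Sylow.coe_subgroup_smul, Subgroup.mem_pointwise_smul_iff_inv_smul_mem]
    simp
  have hA : ∀ w : G, w ∈ A.map (MulAut.conj k : G →* G) ↔ k⁻¹ * w * k ∈ A := fun w =>
    Invol.mem_map_conj
  refine ⟨⟨fun w hw => (hP w).2 (h.closed.1 ((hA w).1 hw)), fun x hx g hg => (hA _).2 ?_⟩,
    fun e => h.ne ((Subgroup.map_eq_bot_iff_of_injective _ (MulAut.conj k).injective).1 e),
    h.top, fun a ha ha2 => ?_, fun g hg => ?_⟩
  · have := h.closed.2 _ ((hA x).1 hx) (k⁻¹ * g * k)
      (by simpa [mul_assoc] using (hP _).1 hg)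
    simpa [mul_assoc] using this
  · refine IsAInvol.cent h ⟨k, k⁻¹ * a * k, (hA a).1 ha, ?_, by group⟩ ?_
    · simpa [ha2] using Invol.orderOf_conj_eq k⁻¹ a
    · have := mul_mem (mul_mem hk (h.sylow_le (h.closed.1 ((hA a).1 ha)))) (inv_mem hk)
      simpa [mul_assoc] using this
  · have := h.norm (k⁻¹ * g * k) fun a ha ha2 => by
      have := (hA _).1 (hg (k * a * k⁻¹) ((hA _).2 (by simpa [mul_assoc] using ha))
        (by rw [Invol.orderOf_conj_eq, ha2]))
      simpa [mul_assoc] using this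
    simpa [mul_assoc] using mul_mem (mul_mem hk this) (inv_mem hk)

end Cfsg.Agent.Fus.SClosedSE
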