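import Mathlib
import Cfsg.Prelude.Def_Involutions
import Cfsg.Agent.Lib.Invol.SPEmbedded
import Cfsg.Agent.Lib.Invol.Sylow
import Cfsg.Agent.Lib.Invol.BenderCover.Main
import Cfsg.Agent.Lib.Grp.Cores
import Cfsg.Agent.Lib.Grp.Frattini
import Cfsg.Agent.S2798

/-!
# No double cover of a group with a strongly embedded subgroup by a closed class of involutions
-/

set_option autoImplicit false

namespace Cfsg.Agent.Fus.SClosedSE

open Subgroup

universe u

/-- In the rank-one case of Bender's theorem all involutions agree modulo the odd core. -/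
theorem invol_congr_of_rankOne {Q : Type u} [Group Q] [Finite Q]
    (h : ∀ t : Q, orderOf t = 2 → Cfsg.pPrimeCore 2 Q ⊔ Subgroup.centralizer ({t} : Set Q) = ⊤ ∧
      ∀ v ∈ Subgroup.centralizer ({t} : Set Q), orderOf v = 2 → v = t)
    (q : Q →* Q ⧸ Cfsg.pPrimeCore 2 Q) (hq : q = QuotientGroup.mk' _)
    {s t : Q} (hs : orderOf s = 2) (ht : orderOf t = 2) : q s = q t := by
  haveI : Fact (Nat.Prime 2) := ⟨Nat.prime_two⟩
  haveI : (Cfsg.pPrimeCore 2 Q).Normal := Grp.pPrimeCore_isNormal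
  obtain ⟨hO, huniq⟩ := h t ht
  obtain ⟨S, hS⟩ := (Invol.isPGroup_zpowers (n := 1)
    (by rw [ht, pow_one] : orderOf t = 2 ^ 1)).exists_le_sylow
  have htS : t ∈ (S : Subgroup Q) := hS (Subgroup.mem_zpowers t)
  -- `t` is central in `S`
  haveI : Group.IsNilpotent (S : Subgroup Q) := S.isPGroup'.isNilpotent
  have hS1 : Nontrivial (S : Subgroup Q) :=
    ⟨⟨⟨t, htS⟩, 1, fun e => Invol.ne_one_of_orderOf_two ht (congrArg Subtype.val e)⟩⟩
  haveI : Nontrivial (Subgroup.center (S : Subgroup Q)) := S.isPGroup'.center_nontrivial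
  obtain ⟨c, hc⟩ := exists_prime_orderOf_dvd_card' (G := Subgroup.center (S : Subgroup Q)) 2 (by
    obtain ⟨k, hk⟩ := IsPGroup.iff_card.1 (S.isPGroup'.to_subgroup (Subgroup.center _))
    rw [hk]
    refine dvd_pow_self 2 fun e => ?_
    rw [e, pow_zero] at hk
    exact (Finite.one_lt_card (α := Subgroup.center (S : Subgroup Q))).ne' hk)
  have hcS : ∀ r ∈ (S : Subgroup Q), r * ((c : (S : Subgroup Q)) : Q) = (c : (S : Subgroup Q)) * r :=
    fun r hr => congrArg Subtype.val (Subgroup.mem_center_iff.1 c.2 ⟨r, hr⟩)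
  have hct : ((c : (S : Subgroup Q)) : Q) = t := huniq _
    (Subgroup.mem_centralizer_singleton_iff.2 (hcS t htS).symm)
    (by rw [Subgroup.orderOf_coe, Subgroup.orderOf_coe, hc])
  obtain ⟨g, hg⟩ := Invol.exists_conj_mem_sylow (n := 1) (by rw [hs, pow_one]) S
  have hgt : g * s * g⁻¹ = t := huniq _
    (Subgroup.mem_centralizer_singleton_iff.2 (hct ▸ hcS _ hg))
    (by rw [Invol.orderOf_conj_eq, hs])
  obtain ⟨o, ho, d, hd, hod⟩ := Subgroup.mem_sup_of_normal_left.1 (hO.ge (Subgroup.mem_top g⁻¹))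
  have hst : s = o * t * o⁻¹ := by
    have hdt : d * t = t * d := Subgroup.mem_centralizer_singleton_iff.1 hd
    calc s = g⁻¹ * t * g⁻¹⁻¹ := by rw [← hgt]; group
      _ = o * (d * t) * (o * d)⁻¹ * 1 := by rw [← hod]; group
      _ = o * (t * d) * (o * d)⁻¹ * 1 := by rw [hdt]
      _ = o * t * o⁻¹ := by group
  have hqo : q o = 1 := by rw [hq]; exact (QuotientGroup.eq_one_iff o).2 ho
  rw [hst, map_mul, map_mul, map_inv, hqo]
  simp

theorem se_cover_false {G : Type u} [Group G] [Finite G] {Q : Type u} [Group Q] [Finite Q]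
    (f : G →* Q) (hf : Function.Surjective f) (u : G) (huc : ∀ g : G, u * g = g * u)
    (hu2 : orderOf u = 2) (hfu : f u = 1) (hker : ∀ g : G, f g = 1 → g = 1 ∨ g = u)
    (X : Subgroup Q) (hX : Cfsg.IsStronglyEmbedded X) (Z : Set G) (hne : Z.Nonempty)
    (hZ2 : ∀ z ∈ Z, orderOf z = 2) (hZc : ∀ z ∈ Z, ∀ g : G, g * z * g⁻¹ ∈ Z)
    (hgen : Subgroup.closure Z = ⊤) (huZ : u ∉ Z)
    (hmul : ∀ z ∈ Z, ∀ t ∈ Z, z * t = t * z → z ≠ t → z * t ∈ Z) : False := by
  classical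
  haveI : Fact (Nat.Prime 2) := ⟨Nat.prime_two⟩
  have hXp : Cfsg.IsStronglyPEmbedded 2 X := Invol.isStronglyPEmbedded_iff.2
    ⟨even_iff_two_dvd.1 hX.2.1, hX.1, fun g hg h =>
      Nat.not_even_iff_odd.2 (hX.2.2 g hg) (even_iff_two_dvd.2 h)⟩
  haveI : (Cfsg.pPrimeCore 2 Q).Normal := Grp.pPrimeCore_isNormal
  set O := Cfsg.pPrimeCore 2 Q with hOdef
  have hOodd : Odd (Nat.card O) := by
    rcases Nat.even_or_odd (Nat.card O) with h | h
    · exact absurd (even_iff_two_dvd.1 h) Grp.pPrimeCore_not_dvd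
    · exact h
  set n := Nat.card O with hn
  set q : G →* Q ⧸ O := (QuotientGroup.mk' O).comp f with hq
  have hqs : Function.Surjective q := (QuotientGroup.mk'_surjective O).comp hf
  have hqu : q u = 1 := by simp [hq, hfu]
  have huu : u * u = 1 := Invol.mul_self_of_orderOf_two hu2
  have hu1 : u ≠ 1 := Invol.ne_one_of_orderOf_two hu2
  have hun : u ^ n = u := by
    obtain ⟨j, hj⟩ := hOodd
    rw [hj, pow_succ, pow_mul, sq, huu, one_pow, one_mul]
  -- the odd part of the kernel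
  set K := q.ker with hK
  have huK : u ∈ K := hqu
  set f₀ : ↥K →* Q := f.comp K.subtype with hf₀
  have hrange : f₀.range ≤ O := by
    rintro _ ⟨k, rfl⟩
    exact (QuotientGroup.eq_one_iff (f k)).1 k.2
  have hidx : f₀.ker.index ∣ n := by
    rw [Subgroup.index_ker]
    exact Subgroup.card_dvd_of_le hrange
  have hk2 : Nat.card f₀.ker = 2 := by
    have e : f₀.ker = Subgroup.zpowers ⟨u, huK⟩ := by
      refine le_antisymm (fun k hk => ?_) (Subgroup.zpowers_le.2 hfu)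
      rcases hker k hk with h | h
      · rw [show k = 1 from Subtype.ext h]; exact one_mem _
      · rw [show k = ⟨u, huK⟩ from Subtype.ext h]; exact Subgroup.mem_zpowers _
    rw [e, Nat.card_zpowers, Subgroup.orderOf_mk, hu2]
  obtain ⟨Cc, hCc⟩ := Subgroup.exists_left_complement'_of_coprime (N := f₀.ker) (by
    rw [hk2]
    exact Nat.coprime_two_left.2 (hOodd.of_dvd_nat hidx))
  have hCcn : ∀ c ∈ Cc, c ^ n = 1 := fun c hc => by
    refine orderOf_dvd_iff_pow_eq_one.1 (dvd_trans ?_ hidx)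
    rw [← Subgroup.orderOf_mk c hc, hCc.index_eq_card]
    exact orderOf_dvd_natCard _
  have hpow : ∀ k : ↥K, k ∈ Cc ↔ (k : G) ^ n = 1 := by
    intro k
    refine ⟨fun hk => congrArg Subtype.val (hCcn k hk), fun hk => ?_⟩
    obtain ⟨⟨c, v⟩, hcv⟩ := (hCc.existsUnique k).exists
    have hcv' : (c : ↥K) * (v : ↥K) = k := hcv
    rcases hker ((v : ↥K) : G) v.2 with h | h
    · rw [← hcv', show (v : ↥K) = 1 from Subtype.ext h, mul_one]; exact c.2
    · exfalso
      have e : (k : G) = ((c : ↥K) : G) * u := by rw [← hcv', Subgroup.coe_mul, h]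
      rw [e, (show Commute ((c : ↥K) : G) u from (huc _).symm).mul_pow, hun,
        show (((c : ↥K) : G)) ^ n = 1 from congrArg Subtype.val (hCcn _ c.2), one_mul] at hk
      exact hu1 hk
  set C := Cc.map K.subtype with hC
  have hCmem : ∀ g : G, g ∈ C ↔ q g = 1 ∧ g ^ n = 1 := fun g => by
    constructor
    · rintro ⟨k, hk, rfl⟩
      exact ⟨k.2, (hpow k).1 hk⟩
    · rintro ⟨h1, h2⟩
      exact ⟨⟨g, h1⟩, (hpow ⟨g, h1⟩).2 h2, rfl⟩
  haveI hCn : C.Normal := ⟨fun c hc g => (hCmem _).2 ⟨by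
    rw [map_mul, map_mul, map_inv, ((hCmem c).1 hc).1, mul_one, mul_inv_cancel], by
    rw [conj_pow, ((hCmem c).1 hc).2, mul_one, mul_inv_cancel]⟩⟩
  set μ := QuotientGroup.mk' C with hμ
  have hμ1 : ∀ g : G, μ g = 1 ↔ g ∈ C := fun g => QuotientGroup.eq_one_iff g
  have hquot : C ≤ q.ker := fun g hg => ((hCmem g).1 hg).1
  set π : G ⧸ C →* Q ⧸ O := QuotientGroup.lift C q hquot with hπ
  have hπμ : ∀ g : G, π (μ g) = q g := fun g => rfl
  have hμs : Function.Surjective μ := QuotientGroup.mk'_surjective C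
  have hπs : Function.Surjective π := fun y => by
    obtain ⟨g, rfl⟩ := hqs y
    exact ⟨μ g, rfl⟩
  have hμu : μ u ≠ 1 := fun e => hu1 (by
    have h := ((hCmem u).1 ((hμ1 u).1 e)).2
    rwa [hun] at h)
  have hkπ : ∀ x : G ⧸ C, π x = 1 → x = 1 ∨ x = μ u := by
    intro x hx
    obtain ⟨g, rfl⟩ := hμs x
    rw [hπμ] at hx
    have hgn : f (g ^ n) = 1 := by
      rw [map_pow]
      have : f g ∈ O := (QuotientGroup.eq_one_iff (f g)).1 hx
      have h := pow_card_eq_one' (G := O) (x := ⟨f g, this⟩)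
      exact congrArg Subtype.val h
    rcases hker _ hgn with h | h
    · exact Or.inl ((hμ1 g).2 ((hCmem g).2 ⟨hx, h⟩))
    · refine Or.inr ?_
      have : g * u ∈ C := (hCmem _).2 ⟨by rw [map_mul, hx, hqu, one_mul], by
        rw [(show Commute g u from (huc g).symm).mul_pow, h, hun, huu]⟩
      rw [← hμ1, map_mul] at this
      rw [eq_inv_of_mul_eq_one_left this, ← map_inv,
        inv_eq_of_mul_eq_one_left huu]
  -- the image of the class
  set Z' : Set (G ⧸ C) := μ '' Z with hZ'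
  have hzC : ∀ z ∈ Z, μ z ≠ 1 := fun z hz e => by
    have h := ((hCmem z).1 ((hμ1 z).1 e)).2
    obtain ⟨j, hj⟩ := hOodd
    rw [hj, pow_succ, pow_mul, sq, Invol.mul_self_of_orderOf_two (hZ2 z hz), one_pow, one_mul] at h
    exact Invol.ne_one_of_orderOf_two (hZ2 z hz) h
  have hZ'2 : ∀ x ∈ Z', x * x = 1 ∧ x ≠ 1 := by
    rintro _ ⟨z, hz, rfl⟩
    exact ⟨by rw [← map_mul, Invol.mul_self_of_orderOf_two (hZ2 z hz), map_one], hzC z hz⟩
  have hZ'c : ∀ x ∈ Z', ∀ g : G ⧸ C, g * x * g⁻¹ ∈ Z' := by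
    rintro _ ⟨z, hz, rfl⟩ g
    obtain ⟨k, rfl⟩ := hμs g
    exact ⟨k * z * k⁻¹, hZc z hz k, by simp⟩
  have hgen' : Subgroup.closure Z' = ⊤ := by
    rw [hZ', ← MonoidHom.map_closure, hgen, Subgroup.map_top_of_surjective μ hμs]
  have huZ' : μ u ∉ Z' := by
    rintro ⟨z, hz, hzu⟩
    have hqz : q z = 1 := by rw [← hπμ, hzu, hπμ, hqu]
    have hgn : f (z ^ n) = 1 := by
      rw [map_pow]
      have : f z ∈ O := (QuotientGroup.eq_one_iff (f z)).1 hqz
      exact congrArg Subtype.val (pow_card_eq_one' (G := O) (x := ⟨f z, this⟩))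
    have hzn : z ^ n = z := by
      obtain ⟨j, hj⟩ := hOodd
      rw [hj, pow_succ, pow_mul, sq, Invol.mul_self_of_orderOf_two (hZ2 z hz), one_pow, one_mul]
    rw [hzn] at hgn
    rcases hker z hgn with h | h
    · exact Invol.ne_one_of_orderOf_two (hZ2 z hz) h
    · exact huZ (h ▸ hz)
  have hmul' : ∀ x ∈ Z', ∀ y ∈ Z', x * y = y * x → x ≠ y → x * y ∈ Z' := by
    rintro _ ⟨x, hx, rfl⟩ _ ⟨y, hy, rfl⟩ hc hxy
    have hx2 := hZ2 x hx
    have hy2 := hZ2 y hy
    obtain ⟨a, b, hb, hab⟩ := Nat.exists_eq_two_pow_mul_odd (orderOf_pos (x * y)).ne'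
    obtain ⟨d, -, hdy, hw⟩ := Invol.exists_conj_two_part hx2 hy2 hab hb
    set w := (x * y) ^ b with hwdef
    have hsq : (μ x * μ y) * (μ x * μ y) = 1 := by
      calc μ x * μ y * (μ x * μ y) = μ x * (μ y * μ x) * μ y := by group
        _ = μ x * μ x * (μ y * μ y) := by rw [← hc]; group
        _ = 1 := by rw [(hZ'2 _ ⟨x, hx, rfl⟩).1, (hZ'2 _ ⟨y, hy, rfl⟩).1, one_mul]
    have hμw : μ w = μ x * μ y := by
      obtain ⟨j, hj⟩ := hb
      rw [hwdef, map_pow, map_mul, hj, pow_succ, pow_mul, sq, hsq, one_pow, one_mul]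
    have hww : w * w = 1 := by
      have h1 : w * w ∈ C := (hμ1 _).1 (by rw [map_mul, hμw, hsq])
      have h2 : orderOf (w * w) ∣ 2 ^ a := by
        rw [← sq, ← hw]
        exact orderOf_pow_dvd 2
      rw [← orderOf_eq_one_iff]
      exact Nat.eq_one_of_dvd_coprimes ((Nat.coprime_two_left.2 hOodd).pow_left a) h2
        (orderOf_dvd_of_pow_eq_one ((hCmem _).1 h1).2)
    have hy' : x * w ∈ Z := hdy ▸ hZc y hy d
    have hxx := Invol.mul_self_of_orderOf_two hx2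
    have e1 : x * (x * w) = w := by rw [← mul_assoc, hxx, one_mul]
    have e2 : x * w * x = w := by
      have h := Invol.mul_self_of_orderOf_two (hZ2 _ hy')
      have h3 : x * w * x = w⁻¹ := eq_inv_of_mul_eq_one_left (by rw [mul_assoc]; exact h)
      rw [h3, inv_eq_of_mul_eq_one_left hww]
    have hne' : x ≠ x * w := by
      intro e
      have hw1 : w = 1 := mul_eq_left.1 e.symm
      rw [hw1, map_one] at hμw
      refine hxy ?_
      rw [eq_inv_of_mul_eq_one_left hμw.symm]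
      exact inv_eq_of_mul_eq_one_left (hZ'2 _ ⟨y, hy, rfl⟩).1
    exact ⟨w, e1 ▸ hmul x hx _ hy' (e1.trans e2.symm) hne', hμw⟩
  rcases Cfsg.Agent.S2798.result X hXp with hr | hbend
  · obtain ⟨z₁, hz₁⟩ := hne
    have hf2 : ∀ z ∈ Z, orderOf (f z) = 2 := fun z hz => Invol.orderOf_two_iff.2
      ⟨by rw [← map_mul, Invol.mul_self_of_orderOf_two (hZ2 z hz), map_one], fun e => by
        rcases hker z e with h | h
        · exact Invol.ne_one_of_orderOf_two (hZ2 z hz) h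
        · exact huZ (h ▸ hz)⟩
    have hall : ∀ z ∈ Z, μ z = μ z₁ := by
      intro z hz
      by_contra hne1
      have hh : π (μ z) = π (μ z₁) := by
        rw [hπμ, hπμ]
        exact invol_congr_of_rankOne hr _ rfl (hf2 z hz) (hf2 z₁ hz₁)
      have hk := hkπ (μ z * (μ z₁)⁻¹) (by rw [map_mul, map_inv, hh, mul_inv_cancel])
      rcases hk with h | h
      · exact hne1 (mul_inv_eq_one.1 h)
      · have hz11 : (μ z₁)⁻¹ = μ z₁ := inv_eq_of_mul_eq_one_left (hZ'2 _ ⟨z₁, hz₁, rfl⟩).1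
        rw [hz11] at h
        have hcm : μ z * μ z₁ = μ z₁ * μ z := by
          have : μ z₁ * μ z = (μ z * μ z₁)⁻¹ := by
            rw [mul_inv_rev, hz11,
              inv_eq_of_mul_eq_one_left (hZ'2 _ ⟨z, hz, rfl⟩).1]
          rw [this, h, ← map_inv, inv_eq_of_mul_eq_one_left huu]
        exact huZ' (h ▸ hmul' _ ⟨z, hz, rfl⟩ _ ⟨z₁, hz₁, rfl⟩ hcm hne1)
    have hle : Subgroup.closure Z' ≤ Subgroup.zpowers (μ z₁) := (Subgroup.closure_le _).2 (by
      rintro _ ⟨z, hz, rfl⟩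
      rw [hall z hz]
      exact Subgroup.mem_zpowers _)
    rw [hgen'] at hle
    obtain ⟨i, hi⟩ := Subgroup.mem_zpowers_iff.1 (hle (Subgroup.mem_top (μ u)))
    have hz2 : (μ z₁) ^ (2 : ℤ) = 1 := by
      rw [zpow_two]; exact (hZ'2 _ ⟨z₁, hz₁, rfl⟩).1
    rcases Int.even_or_odd i with ⟨j, rfl⟩ | ⟨j, rfl⟩
    · rw [← two_mul, zpow_mul, hz2, one_zpow] at hi
      exact hμu hi.symm
    · rw [zpow_add, zpow_mul, hz2, one_zpow, one_mul, zpow_one] at hi
      exact huZ' ⟨z₁, hz₁, hi⟩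
  · have htop : Cfsg.pElementClosure 2 (⊤ : Subgroup (Q ⧸ O)) = ⊤ := by
      refine le_antisymm le_top ?_
      have hcl : Subgroup.closure (π '' Z') = ⊤ := by
        rw [← MonoidHom.map_closure, hgen', Subgroup.map_top_of_surjective π hπs]
      refine hcl.ge.trans ((Subgroup.closure_le _).2 ?_)
      rintro _ ⟨x, hx, rfl⟩
      refine Subgroup.subset_closure ⟨Subgroup.mem_top _, ?_⟩
      obtain ⟨k, -, hk⟩ := (Nat.dvd_prime_pow Nat.prime_two (m := 1)).1 (orderOf_dvd_of_pow_eq_one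
        (show (π x) ^ (2 ^ 1) = 1 by rw [pow_one, sq, ← map_mul, (hZ'2 x hx).1, map_one]))
      exact ⟨k, hk⟩
    let e : ↥(Cfsg.pElementClosure 2 (⊤ : Subgroup (Q ⧸ O))) ≃* Q ⧸ O :=
      (MulEquiv.subgroupCongr htop).trans Subgroup.topEquiv
    refine Invol.BenderCover.bender_cover_false π hπs (μ u) (fun x => ?_) (by rw [← map_mul, huu, map_one])
      hμu (by rw [hπμ, hqu]) hkπ ?_ Z' hZ'2 hZ'c hgen' huZ' hmul'
    · obtain ⟨g, rfl⟩ := hμs x
      rw [← map_mul, huc, map_mul]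
    · rcases hbend with ⟨F, i1, i2, hc, h4, ⟨i⟩⟩ | ⟨F, i1, i2, m, hm, h4, hF, ⟨i⟩⟩ |
        ⟨F, i1, i2, m, hm, hF, ⟨i⟩⟩
      · exact Or.inl ⟨F, i1, i2, hc, h4, ⟨e.symm.trans i⟩⟩
      · exact Or.inr (Or.inl ⟨F, i1, i2, m, hm, h4, hF, ⟨e.symm.trans i⟩⟩)
      · exact Or.inr (Or.inr ⟨F, i1, i2, m, hm, hF, ⟨e.symm.trans i⟩⟩)

end Cfsg.Agent.Fus.SClosedSE
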