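import Mathlib
import Cfsg.Prelude.Def_Involutions
import Cfsg.Prelude.Def_TwoFusion
import Cfsg.Prelude.Def_PLocal
import Cfsg.Agent.Lib.Fus.SClosedSE.Core
import Cfsg.Agent.Lib.Fus.SClosedSE.Cover
import Cfsg.Agent.S1250

/-!
# The strongly embedded subgroup of a strongly closed 2-subgroup

Let `A` be strongly closed in a Sylow 2-subgroup and `H` a proper subgroup containing the
centralisers of the involutions of `A` and the elements permuting them. With Aschbacher's
criterion as a hypothesis, `H` meets the normal closure of these involutions in a strongly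
embedded subgroup.
-/

set_option autoImplicit false

namespace Cfsg.Agent.Fus.SClosedSE

open Subgroup

universe u

theorem se_intro {G : Type u} [Group G] [Finite G] {H L : Subgroup G} (hne : ¬ L ≤ H) {t : G}
    (ht2 : orderOf t = 2) (htL : t ∈ L) (htH : t ∈ H)
    (key : ∀ g ∈ L, g ∉ H → ∀ s : G, orderOf s = 2 → s ∈ L → s ∈ H → g⁻¹ * s * g ∈ H → False) :
    Cfsg.IsStronglyEmbedded (H.subgroupOf L) := by
  refine ⟨fun e => hne (Subgroup.subgroupOf_eq_top.1 e),
    Invol.even_card_of_mem (t := (⟨t, htL⟩ : ↥L)) (by rwa [Subgroup.orderOf_mk]) htH, fun g hg => ?_⟩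
  refine Nat.not_even_iff_odd.1 fun he => ?_
  obtain ⟨s, hs, hs2⟩ := Invol.exists_orderOf_two_mem he
  exact key g g.2 hg s (by rwa [Subgroup.orderOf_coe]) s.2 hs.1
    (Subgroup.mem_subgroupOf.1 (Invol.mem_map_conj.1 hs.2))

theorem se_elim {G : Type u} [Group G] [Finite G] {H L : Subgroup G}
    (h : Cfsg.IsStronglyEmbedded (H.subgroupOf L)) {g s : G} (hgL : g ∈ L) (hgH : g ∉ H)
    (hs : orderOf s = 2) (hsL : s ∈ L) (hsH : s ∈ H) (hgs : g⁻¹ * s * g ∈ H) : False :=
  Nat.not_even_iff_odd.2 (h.2.2 ⟨g, hgL⟩ hgH)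
    (Invol.even_card_of_mem (t := (⟨s, hsL⟩ : ↥L)) (by rwa [Subgroup.orderOf_mk])
      (Subgroup.mem_inf.2 ⟨hsH, Invol.mem_map_conj.2 hgs⟩))

theorem se_mono {G : Type u} [Group G] [Finite G] {H K L : Subgroup G}
    (h : Cfsg.IsStronglyEmbedded (H.subgroupOf K)) (hLK : L ≤ K) (hne : ¬ L ≤ H) {t : G}
    (ht2 : orderOf t = 2) (htL : t ∈ L) (htH : t ∈ H) :
    Cfsg.IsStronglyEmbedded (H.subgroupOf L) :=
  se_intro hne ht2 htL htH fun _ hg hgH _ hs hsL hsH hgs =>
    se_elim h (hLK hg) hgH hs (hLK hsL) hsH hgs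

/-- The statement proved by induction on the order of the group. -/
def Holds (G : Type u) [Group G] [Finite G] : Prop :=
  ∀ (P : Sylow 2 G) (A H : Subgroup G), Hyp P A H → Cfsg.IsStronglyEmbedded
    (H.subgroupOf (Subgroup.normalClosure {a : G | a ∈ A ∧ orderOf a = 2}))

/-- The local hypothesis of the criterion, at an involution `u` centralising `z`. -/
theorem local_se {G : Type u} [Group G] [Finite G]
    (ih : ∀ (Q : Type u) [Group Q] [Finite Q], Nat.card Q < Nat.card G → Holds Q)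
    {P : Sylow 2 G} {A H : Subgroup G} (h : Hyp P A H) {z u : G} (hzA : z ∈ A)
    (hz2 : orderOf z = 2) (hu2 : orderOf u = 2) {R : Subgroup G}
    (hR : IsTwoSylowIn R (Subgroup.centralizer ({u} : Set G))) (hRP : R ≤ (P : Subgroup G))
    (hzR : z ∈ R) (huR : u ∈ R) (hnC : ¬ Subgroup.centralizer ({u} : Set G) ≤ H) :
    Cfsg.IsStronglyEmbedded
      (H.subgroupOf (Subgroup.closure {x : G | IsConj z x ∧ x * u = u * x})) := by
  haveI : Fact (Nat.Prime 2) := ⟨Nat.prime_two⟩
  have hPH := h.sylow_le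
  have huH : u ∈ H := hPH (hRP huR)
  have hzH : z ∈ H := hPH (h.closed.1 hzA)
  have hzI : IsAInvol A z := .of_mem hzA hz2
  have hui : ¬ IsAInvol A u := fun hu => hnC (hu.cent h huH)
  have huA : u ∉ A := fun hu => hui (.of_mem hu hu2)
  set M := Subgroup.centralizer ({u} : Set G) with hM
  have hMem : ∀ {x : G}, x ∈ M ↔ x * u = u * x := Subgroup.mem_centralizer_singleton_iff
  have huM : u ∈ M := hMem.2 rfl
  have hzM : z ∈ M := hR.1 hzR
  -- the quotient by `u`
  set Nu : Subgroup ↥M := Subgroup.zpowers ⟨u, huM⟩ with hNu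
  have hNucard : Nat.card Nu = 2 := by rw [hNu, Nat.card_zpowers, Subgroup.orderOf_mk, hu2]
  haveI hNn : Nu.Normal := ⟨fun x hx g => by
    obtain ⟨i, rfl⟩ := Subgroup.mem_zpowers_iff.1 hx
    have hcm : Commute g (⟨u, huM⟩ : ↥M) := Subtype.ext (hMem.1 g.2)
    rw [(hcm.zpow_right i).eq, mul_inv_cancel_right]
    exact Subgroup.zpow_mem _ (Subgroup.mem_zpowers _) i⟩
  set π := QuotientGroup.mk' Nu with hπ
  have hπs : Function.Surjective π := QuotientGroup.mk'_surjective Nu
  have hπu : ∀ x : ↥M, (x : G) = u → π x = 1 := fun x hx => (QuotientGroup.eq_one_iff x).2 (by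
    rw [show x = ⟨u, huM⟩ from Subtype.ext hx]; exact Subgroup.mem_zpowers _)
  have huu : u * u = 1 := Invol.mul_self_of_orderOf_two hu2
  have hker : ∀ x : ↥M, π x = 1 → (x : G) = 1 ∨ (x : G) = u := by
    intro x hx
    obtain ⟨i, hi⟩ := Subgroup.mem_zpowers_iff.1 ((QuotientGroup.eq_one_iff x).1 hx)
    have hiu : u ^ i = (x : G) := by rw [← hi]; rfl
    have hu22 : u ^ (2 : ℤ) = 1 := by rw [zpow_two]; exact huu
    rcases Int.even_or_odd i with ⟨j, rfl⟩ | ⟨j, rfl⟩
    · rw [← two_mul, zpow_mul, hu22, one_zpow] at hiu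
      exact Or.inl hiu.symm
    · rw [zpow_add, zpow_mul, hu22, one_zpow, one_mul, zpow_one] at hiu
      exact Or.inr hiu.symm
  have hπeq : ∀ x y : ↥M, π x = π y → (y : G) = x ∨ (y : G) = x * u := by
    intro x y hxy
    rcases hker (x⁻¹ * y) (by rw [map_mul, map_inv, hxy, inv_mul_cancel]) with e | e
    · exact Or.inl (inv_mul_eq_one.1 e).symm
    · exact Or.inr (inv_mul_eq_iff_eq_mul.1 e)
  have hcard : Nat.card (↥M ⧸ Nu) < Nat.card G := by
    have e := Subgroup.card_eq_card_quotient_mul_card_subgroup Nu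
    rw [hNucard] at e
    have h1 : Nat.card ↥M ≤ Nat.card G := Subgroup.card_le_card_group M
    have h2 : 0 < Nat.card (↥M ⧸ Nu) := Nat.card_pos
    omega
  set HM : Subgroup (↥M ⧸ Nu) := (H.subgroupOf M).map π with hHM
  have hmemH : ∀ x : ↥M, π x ∈ HM ↔ (x : G) ∈ H := by
    intro x
    refine ⟨?_, fun hx => ⟨x, hx, rfl⟩⟩
    rintro ⟨y, hy, hyx⟩
    rcases hπeq y x hyx with e | e <;> rw [e]
    · exact hy
    · exact mul_mem hy huH
  obtain ⟨P₀, hP₀⟩ := hR.sylow
  set A₀ : Subgroup ↥M := (A ⊓ R).subgroupOf M with hA₀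
  have hA₀c : Cfsg.IsStronglyClosed A₀ (P₀ : Subgroup ↥M) := by
    rw [hP₀]
    exact ⟨fun x hx => hx.2, fun x hx g hg => ⟨h.closed.2 x hx.1 g (hRP hg), hg⟩⟩
  have hlift : ∀ t ∈ A₀.map π, orderOf t = 2 →
      ∃ s : ↥M, (s : G) ∈ A ∧ (s : G) ∈ R ∧ orderOf (s : G) = 2 ∧ π s = t := by
    rintro _ ⟨s, hs, rfl⟩ ht
    refine ⟨s, hs.1, hs.2, Invol.orderOf_two_iff.2 ⟨?_, fun e => ?_⟩, rfl⟩
    · rcases hker (s * s) (by rw [map_mul, Invol.mul_self_of_orderOf_two ht]) with e | e
      · exact e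
      · exact absurd (e ▸ A.mul_mem hs.1 hs.1) huA
    · rw [show s = 1 from Subtype.ext e, map_one, orderOf_one] at ht
      omega
  have hne1 : ∀ x : ↥M, orderOf (x : G) = 2 → (x : G) ≠ u → orderOf (π x) = 2 := fun x hx hxu =>
    Invol.orderOf_two_iff.2 ⟨by
      rw [← map_mul, show x * x = 1 from Subtype.ext (Invol.mul_self_of_orderOf_two hx), map_one],
      fun e => (hker x e).elim (Invol.ne_one_of_orderOf_two hx) hxu⟩
  have hzu : z ≠ u := fun e => huA (e ▸ hzA)
  have hzA₀ : π ⟨z, hzM⟩ ∈ A₀.map π := ⟨_, ⟨hzA, hzR⟩, rfl⟩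
  have hzπ2 : orderOf (π ⟨z, hzM⟩) = 2 := hne1 _ hz2 hzu
  have hHyp : Hyp (P₀.mapSurjective hπs) (A₀.map π) HM := by
    refine ⟨?_, fun e => ?_, fun e => hnC fun x hx => ?_, fun t ht ht2 => ?_, fun g hg => ?_⟩
    · rw [Sylow.coe_mapSurjective]
      exact Cfsg.Agent.S1250.result P₀ A₀ hA₀c Nu
    · have hm := hzA₀
      rw [e, Subgroup.mem_bot] at hm
      rw [hm, orderOf_one] at hzπ2
      omega
    · exact (hmemH ⟨x, hx⟩).1 (e ▸ Subgroup.mem_top _)
    · obtain ⟨s, hsA, hsR, hs2, rfl⟩ := hlift t ht ht2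
      intro y hy
      obtain ⟨x, rfl⟩ := hπs y
      rw [Subgroup.mem_centralizer_singleton_iff] at hy
      refine (hmemH x).2 ?_
      rcases hπeq s (x * s * x⁻¹) (by rw [map_mul, map_mul, map_inv, hy, mul_inv_cancel_right])
        with e | e
      · exact h.cent _ hsA hs2 (Subgroup.mem_centralizer_singleton_iff.2 (mul_inv_eq_iff_eq_mul.1 e))
      · exfalso
        have hA' : (x : G) * s * (x : G)⁻¹ ∈ A := by
          refine h.closed.2 _ hsA _ ?_
          rw [show (x : G) * s * (x : G)⁻¹ = (s : G) * u from e]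
          exact hRP (mul_mem hsR huR)
        rw [show (x : G) * s * (x : G)⁻¹ = (s : G) * u from e] at hA'
        exact huA (by simpa using mul_mem (inv_mem hsA) hA')
    · obtain ⟨x, rfl⟩ := hπs g
      refine (hmemH x).2 ?_
      obtain ⟨a, ha, hax⟩ := hg _ hzA₀ hzπ2
      have hxz : π a = π (x * ⟨z, hzM⟩ * x⁻¹) := by rw [hax, map_mul, map_mul, map_inv]
      have hP' : (x : G) * z * (x : G)⁻¹ ∈ (P : Subgroup G) := by
        rcases hπeq a _ hxz with e | e
        · rw [show (x : G) * z * (x : G)⁻¹ = (a : G) from e]; exact hRP ha.2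
        · rw [show (x : G) * z * (x : G)⁻¹ = (a : G) * u from e]; exact hRP (mul_mem ha.2 huR)
      exact h.control hzA (Invol.ne_one_of_orderOf_two hz2) (h.closed.2 z hzA _ hP')
  have hK := ih (↥M ⧸ Nu) hcard _ _ _ hHyp
  set K := Subgroup.normalClosure {a : ↥M ⧸ Nu | a ∈ A₀.map π ∧ orderOf a = 2} with hKdef
  haveI hKn : K.Normal := Subgroup.normalClosure_normal
  -- the subgroup generated by the conjugates of `z` centralising `u`
  set L := Subgroup.closure {x : G | IsConj z x ∧ x * u = u * x} with hL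
  have hLM : L ≤ M := (Subgroup.closure_le _).2 fun x hx => hMem.2 hx.2
  have hzL : z ∈ L := Subgroup.subset_closure ⟨IsConj.refl z, hMem.1 hzM⟩
  have hgenI : ∀ x : G, IsConj z x → IsAInvol A x := fun x hx => by
    obtain ⟨c, rfl⟩ := _root_.isConj_iff.1 hx
    exact hzI.conj c
  set f : ↥L →* ↥M ⧸ Nu := π.comp (Subgroup.inclusion hLM) with hf
  have hfK : f.range ≤ K := by
    have hle : L ≤ (K.comap π).map M.subtype := (Subgroup.closure_le _).2 fun x hx => by
      have hxM : x ∈ M := hMem.2 hx.2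
      have hx2 := (hgenI x hx.1).orderOf_eq
      obtain ⟨m, hm, hmR⟩ := hR.2.2 (Subgroup.zpowers x) (Subgroup.zpowers_le.2 hxM)
        (Invol.isPGroup_zpowers (n := 1) (by rw [hx2, pow_one]))
      have hxR := hmR x (Subgroup.mem_zpowers x)
      have hxA := h.mem_of_mem_sylow ((hgenI x hx.1).conj m) (hRP hxR)
      refine ⟨⟨x, hxM⟩, ?_, rfl⟩
      have hk : π (⟨m, hm⟩ * ⟨x, hxM⟩ * (⟨m, hm⟩ : ↥M)⁻¹) ∈ K :=
        Subgroup.subset_normalClosure ⟨⟨_, ⟨hxA, hxR⟩, rfl⟩, hne1 _
          (by show orderOf (m * x * m⁻¹) = 2; rw [Invol.orderOf_conj_eq, hx2])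
          (fun e => huA (e ▸ hxA))⟩
      rw [map_mul, map_mul, map_inv] at hk
      have hk' := hKn.conj_mem _ hk (π ⟨m, hm⟩)⁻¹
      show π ⟨x, hxM⟩ ∈ K
      have e : (π ⟨m, hm⟩)⁻¹ * (π ⟨m, hm⟩ * π ⟨x, hxM⟩ * (π ⟨m, hm⟩)⁻¹) * (π ⟨m, hm⟩)⁻¹⁻¹ =
          π ⟨x, hxM⟩ := by group
      rwa [e] at hk'
    rintro _ ⟨x, rfl⟩
    obtain ⟨y, hy, hyx⟩ := hle x.2
    show π (Subgroup.inclusion hLM x) ∈ K
    rwa [show Subgroup.inclusion hLM x = y from Subtype.ext hyx.symm]
  obtain ⟨m, hmM, hmH⟩ := SetLike.not_le_iff_exists.1 hnC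
  have hmL : m * z * m⁻¹ ∈ L := Subgroup.subset_closure ⟨_root_.isConj_iff.2 ⟨m, rfl⟩,
    hMem.1 (mul_mem (mul_mem hmM hzM) (inv_mem hmM))⟩
  have hmzH : m * z * m⁻¹ ∉ H := fun e => hmH (h.fix hzA hz2 e)
  have hfne : ¬ f.range ≤ HM := fun hle => hmzH ((hmemH _).1 (hle ⟨⟨_, hmL⟩, rfl⟩))
  have hfz : orderOf (f ⟨z, hzL⟩) = 2 := hzπ2
  have hse := se_mono hK hfK hfne hfz ⟨⟨z, hzL⟩, rfl⟩ ((hmemH _).2 hzH)
  have huL : u ∉ L := by
    intro huL
    refine se_cover_false f.rangeRestrict f.rangeRestrict_surjective ⟨u, huL⟩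
      (fun g => Subtype.ext (hMem.1 (hLM g.2)).symm) (by rwa [Subgroup.orderOf_mk])
      (Subtype.ext (hπu _ rfl)) (fun g hg => ?_) _ hse {x : ↥L | IsAInvol A (x : G)}
      ⟨⟨z, hzL⟩, hzI⟩ (fun x hx => by rw [← Subgroup.orderOf_coe]; exact hx.orderOf_eq)
      (fun x hx g => hx.conj (g : G)) ?_ hui fun x hx y hy hc hne =>
        IsAInvol.mul h hx hy (congrArg Subtype.val hc) fun e => hne (Subtype.ext e)
    · exact (hker _ (congrArg Subtype.val hg)).imp (fun e => Subtype.ext e) fun e => Subtype.ext e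
    · rw [eq_top_iff, ← Subgroup.closure_closure_coe_preimage
        (k := {x : G | IsConj z x ∧ x * u = u * x})]
      exact Subgroup.closure_mono fun x hx => hgenI _ hx.1
  refine se_intro (fun hle => hmzH (hle hmL)) hz2 hzL hzH fun g hg hgH s hs hsL hsH hgs => ?_
  refine se_elim hse (g := f ⟨g, hg⟩) (s := f ⟨s, hsL⟩) ⟨_, rfl⟩ (fun e => hgH ((hmemH _).1 e))
    (hne1 _ hs fun e => huL (e ▸ hsL)) ⟨_, rfl⟩ ((hmemH _).2 hsH) ?_
  rw [← map_inv, ← map_mul, ← map_mul]
  exact (hmemH _).2 hgs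

/-- With the criterion, the statement holds in every group. -/
theorem holds
    (hA : ∀ {G : Type u} [Group G] [Finite G] (P : Sylow 2 G) (z : G), orderOf z = 2 →
      z ∈ (Subgroup.center ↥(P : Subgroup G)).map (P : Subgroup G).subtype → ∀ H : Subgroup G, H ≠ ⊤ →
      (∀ g : G, z ∈ H.map (MulAut.conj g).toMonoidHom ↔ g ∈ H) →
      (∀ u : G, orderOf u = 2 → u * z = z * u → ¬ Subgroup.centralizer ({u} : Set G) ≤ H →
        Cfsg.IsStronglyEmbedded (H.subgroupOf (Subgroup.closure {x : G | IsConj z x ∧ x * u = u * x}))) →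
      Cfsg.IsStronglyEmbedded (H.subgroupOf (Subgroup.normalClosure ({z} : Set G)))) :
    ∀ n : ℕ, ∀ (G : Type u) [Group G] [Finite G], Nat.card G = n → Holds G := by
  haveI : Fact (Nat.Prime 2) := ⟨Nat.prime_two⟩
  intro n
  induction n using Nat.strong_induction_on with
  | _ n ih =>
  intro G _ _ hn P A H h
  obtain ⟨z, hzA, hz2, hzc⟩ := h.exists_central
  have hzH : z ∈ H := h.sylow_le (h.closed.1 hzA)
  have hzI : IsAInvol A z := .of_mem hzA hz2
  have hse := hA P z hz2 ⟨⟨z, h.closed.1 hzA⟩,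
    Subgroup.mem_center_iff.2 fun r => Subtype.ext (hzc r r.2), rfl⟩ H h.top (fun g => ?hi)
    (fun u hu2 huz hnC => ?hii)
  case hi =>
    rw [Invol.mem_map_conj]
    exact ⟨fun hg => hzI.fix h hzH hg, fun hg => mul_mem (mul_mem (inv_mem hg) hzH) hg⟩
  case hii =>
    have huz' : z * u = u * z := huz.symm
    have hne : z ≠ u := fun e => hnC (e ▸ h.cent z hzA hz2)
    have hzu2 : orderOf (z * u) = 2 ^ 1 := by
      rw [pow_one]
      exact Invol.orderOf_two_iff.2 ⟨by
        calc z * u * (z * u) = z * (u * z) * u := by group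
          _ = z * z * (u * u) := by rw [huz]; group
          _ = 1 := by rw [Invol.mul_self_of_orderOf_two hz2, Invol.mul_self_of_orderOf_two hu2,
            one_mul], Invol.mul_ne_one_of_ne hz2 hne⟩
    obtain ⟨R, hR₀, hR⟩ := exists_twoSylowIn (M := Subgroup.centralizer ({u} : Set G))
      ((Subgroup.closure_le _).2 (Set.insert_subset (Subgroup.mem_centralizer_singleton_iff.2 huz')
        (Set.singleton_subset_iff.2 (Subgroup.mem_centralizer_singleton_iff.2 rfl))))
      (Invol.isPGroup_closure_pair hz2 hu2 hzu2)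
    have hzR : z ∈ R := hR₀ Invol.left_mem_closure_pair
    obtain ⟨g, hg⟩ := Invol.exists_conj_subset_sylow hR.2.1 P
    have hgA : g * z * g⁻¹ ∈ A := h.closed.2 z hzA g (hg z hzR)
    have hgH := h.control hzA (Invol.ne_one_of_orderOf_two hz2) hgA
    refine local_se (fun Q _ _ hQ => ih (Nat.card Q) (hn ▸ hQ) Q rfl) (h.conj (inv_mem hgH))
      (z := z) (Invol.mem_map_conj.2 (by rw [inv_inv]; exact hgA)) hz2 hu2 hR (fun r hr => ?_) hzR
      (hR₀ Invol.right_mem_closure_pair) hnC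
    rw [Sylow.coe_subgroup_smul, Subgroup.mem_pointwise_smul_iff_inv_smul_mem]
    simp only [map_inv, inv_inv, MulAut.smul_def, MulAut.conj_apply]
    exact hg r hr
  set N := Subgroup.normalClosure ({z} : Set G) with hN
  haveI hNn : N.Normal := inferInstanceAs (Subgroup.normalClosure ({z} : Set G)).Normal
  have hzN : z ∈ N := Subgroup.subset_normalClosure rfl
  obtain ⟨g, hgN, hgH⟩ : ∃ g ∈ N, g ∉ H := SetLike.not_le_iff_exists.1
    fun hle => hse.1 (Subgroup.subgroupOf_eq_top.2 hle)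
  have hall : ∀ t ∈ A, orderOf t = 2 → t ∈ N := by
    intro t htA ht2
    by_contra htN
    set y := g * z * g⁻¹ with hy
    have hy2 : orderOf y = 2 := by rw [hy, Invol.orderOf_conj_eq, hz2]
    have hyN : y ∈ N := hNn.conj_mem z hzN g
    have hne : t ≠ y := fun e => htN (e ▸ hyN)
    -- no involution centralises both
    have meet : ∀ w : G, orderOf w = 2 → (∃ j : ℕ, (t * y) ^ j = w) →
        IsAInvol A w ∨ w ∈ N → False := by
      rintro w hw2 ⟨j, rfl⟩ hcase
      set w := (t * y) ^ j with hw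
      have hww : w⁻¹ = w := Invol.inv_of_orderOf_two hw2
      have htw : t * w = w * t := by
        have e := Invol.mul_zpow_comm ht2 hy2 (j : ℤ)
        rw [zpow_natCast, zpow_neg, zpow_natCast] at e
        rw [← hw, hww] at e
        exact e
      have hyw : y * w = w * y := by
        have hpw : t * y * w = w * (t * y) := (Commute.self_pow (t * y) j).eq
        calc y * w = t * (t * y * w) := by
              rw [← mul_assoc, ← mul_assoc, Invol.mul_self_of_orderOf_two ht2, one_mul]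
          _ = t * w * (t * y) := by rw [hpw, mul_assoc]
          _ = w * (t * t) * y := by rw [htw]; group
          _ = w * y := by rw [Invol.mul_self_of_orderOf_two ht2, mul_one]
      have hwH : w ∈ H := h.cent t htA ht2 (Subgroup.mem_centralizer_singleton_iff.2 htw.symm)
      have hgw : g⁻¹ * w * g ∈ H := h.cent z hzA hz2 (Subgroup.mem_centralizer_singleton_iff.2 (by
        calc g⁻¹ * w * g * z = g⁻¹ * (w * y) * g := by rw [hy]; group
          _ = g⁻¹ * (y * w) * g := by rw [hyw]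
          _ = z * (g⁻¹ * w * g) := by rw [hy]; group))
      rcases hcase with hwI | hwN
      · exact hgH (hwI.fix h hwH hgw)
      · exact se_elim hse hgN hgH hw2 hwN hwH hgw
    obtain ⟨a, b, hb, hab⟩ := Nat.exists_eq_two_pow_mul_odd (orderOf_pos (t * y)).ne'
    obtain ⟨d, -, hdy, hord⟩ := Invol.exists_conj_two_part ht2 hy2 hab hb
    have hdI : IsAInvol A (t * (t * y) ^ b) := hdy ▸ (hzI.conj g).conj d
    rcases a with _ | _ | a
    · rw [pow_zero, orderOf_eq_one_iff] at hord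
      rw [hord, mul_one] at hdy
      exact htN (hdy ▸ hNn.conj_mem y hyN d)
    · rw [zero_add, pow_one] at hord
      set w := (t * y) ^ b with hw
      refine meet w hord ⟨b, rfl⟩ (Or.inl ?_)
      have hw1 := Invol.ne_one_of_orderOf_two hord
      have htI : IsAInvol A t := .of_mem htA ht2
      have hc : t * (t * w) = t * w * t := by
        have e := Invol.mul_zpow_comm ht2 hy2 (b : ℤ)
        rw [zpow_natCast, zpow_neg, zpow_natCast, ← hw, Invol.inv_of_orderOf_two hord] at e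
        rw [mul_assoc t w t, ← e]
      have := IsAInvol.mul h htI hdI hc fun e => hw1 (mul_eq_left.1 e.symm)
      rwa [← mul_assoc, Invol.mul_self_of_orderOf_two ht2, one_mul] at this
    · set j := 2 ^ (a + 1) * b with hj
      have hpos : 0 < j := Nat.mul_pos (Nat.two_pow_pos _) hb.pos
      have hj2 : j + j = orderOf (t * y) := by rw [hab, hj]; ring
      refine meet ((t * y) ^ j) (Invol.orderOf_two_iff.2 ⟨?_, ?_⟩) ⟨j, rfl⟩ (Or.inr ?_)
      · rw [← pow_add, hj2, pow_orderOf_eq_one]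
      · exact pow_ne_one_of_lt_orderOf hpos.ne' (by omega)
      · have hsq : (t * y) ^ 2 ∈ N := by
          rw [sq]
          have := N.mul_mem (hNn.conj_mem y hyN t) hyN
          rw [Invol.inv_of_orderOf_two ht2] at this
          simpa [mul_assoc] using this
        rw [show j = 2 * (2 ^ a * b) by rw [hj]; ring, pow_mul]
        exact N.pow_mem hsq _
  have heq : Subgroup.normalClosure {a : G | a ∈ A ∧ orderOf a = 2} = N :=
    le_antisymm (Subgroup.normalClosure_le_normal fun a ha => hall a ha.1 ha.2)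
      (Subgroup.normalClosure_le_normal (Set.singleton_subset_iff.2
        (Subgroup.subset_normalClosure ⟨hzA, hz2⟩)))
  rw [heq]
  exact hse

/-- The consequence of the criterion for simple groups. -/
theorem s1174_of
    (hA : ∀ {G : Type u} [Group G] [Finite G] (P : Sylow 2 G) (z : G), orderOf z = 2 →
      z ∈ (Subgroup.center ↥(P : Subgroup G)).map (P : Subgroup G).subtype → ∀ H : Subgroup G, H ≠ ⊤ →
      (∀ g : G, z ∈ H.map (MulAut.conj g).toMonoidHom ↔ g ∈ H) →
      (∀ u : G, orderOf u = 2 → u * z = z * u → ¬ Subgroup.centralizer ({u} : Set G) ≤ H →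
        Cfsg.IsStronglyEmbedded (H.subgroupOf (Subgroup.closure {x : G | IsConj z x ∧ x * u = u * x}))) →
      Cfsg.IsStronglyEmbedded (H.subgroupOf (Subgroup.normalClosure ({z} : Set G))))
    {X : Type u} [Group X] [Finite X] [IsSimpleGroup X] (S : Sylow 2 X) (T : Subgroup X)
    (hT1 : T ≠ ⊥) (hT : Cfsg.IsStronglyClosed T (S : Subgroup X))
    (hprop : (⨆ t : {t : X // t ∈ T ∧ orderOf t = 2},
      Subgroup.centralizer ({(t : X)} : Set X)) ≠ ⊤) :
    ∃ H : Subgroup X, Cfsg.IsStronglyEmbedded H := by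
  haveI : Fact (Nat.Prime 2) := ⟨Nat.prime_two⟩
  set Γ := ⨆ t : {t : X // t ∈ T ∧ orderOf t = 2}, Subgroup.centralizer ({(t : X)} : Set X)
    with hΓ
  obtain ⟨k, hk⟩ := IsPGroup.iff_card.1 (S.isPGroup'.to_le hT.1)
  obtain ⟨t₀, ht₀, ht₀2⟩ := Invol.exists_orderOf_two_mem (H := T) (by
    rcases k with _ | k
    · exact absurd (Subgroup.card_eq_one.1 (by simpa using hk)) hT1
    · rw [hk, pow_succ]; exact (even_two).mul_left _)
  have hle : ∀ t ∈ T, orderOf t = 2 → Subgroup.centralizer ({t} : Set X) ≤ Γ :=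
    fun t ht ht2 => le_iSup (fun t : {t : X // t ∈ T ∧ orderOf t = 2} =>
      Subgroup.centralizer ({(t : X)} : Set X)) ⟨t, ht, ht2⟩
  have ht₀Γ : t₀ ∈ Γ := hle t₀ ht₀ ht₀2 (Subgroup.mem_centralizer_singleton_iff.2 rfl)
  have hH : Subgroup.normalizer (Γ : Set X) ≠ ⊤ := fun e => by
    rcases (Subgroup.normalizer_eq_top_iff.1 e).eq_bot_or_eq_top with b | b
    · rw [b, Subgroup.mem_bot] at ht₀Γ
      exact Invol.ne_one_of_orderOf_two ht₀2 ht₀Γ
    · exact hprop b
  have hyp : Hyp S T (Subgroup.normalizer (Γ : Set X)) := by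
    refine ⟨hT, hT1, hH, fun a ha ha2 => (hle a ha ha2).trans Subgroup.le_normalizer, fun g hg => ?_⟩
    have hmap : Γ.map (MulAut.conj g : X →* X) ≤ Γ := by
      rw [hΓ, Subgroup.map_iSup]
      refine iSup_le fun t => ?_
      refine le_trans ?_ (hle (g * t * g⁻¹) (hg t t.2.1 t.2.2)
        (by rw [Invol.orderOf_conj_eq, t.2.2]))
      rintro _ ⟨c, hc, rfl⟩
      rw [SetLike.mem_coe, Subgroup.mem_centralizer_singleton_iff] at hc
      rw [Subgroup.mem_centralizer_singleton_iff]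
      simp only [MonoidHom.coe_coe, MulAut.conj_apply]
      calc g * c * g⁻¹ * (g * t * g⁻¹) = g * (c * t) * g⁻¹ := by group
        _ = g * (t * c) * g⁻¹ := by rw [hc]
        _ = _ := by group
    exact Invol.mem_normalizer_of_map_eq (Subgroup.eq_of_le_of_card_ge hmap
      (Subgroup.card_map_of_injective (K := Γ) (f := (MulAut.conj g : X →* X))
        (MulAut.conj g).injective).ge)
  have hse := holds hA _ X rfl S T _ hyp
  set K := Subgroup.normalClosure {a : X | a ∈ T ∧ orderOf a = 2} with hKdef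
  have ht₀K : t₀ ∈ K := Subgroup.subset_normalClosure ⟨ht₀, ht₀2⟩
  have hK : K = ⊤ := by
    haveI : K.Normal :=
      inferInstanceAs (Subgroup.normalClosure {a : X | a ∈ T ∧ orderOf a = 2}).Normal
    rcases (inferInstance : K.Normal).eq_bot_or_eq_top with b | b
    · rw [b, Subgroup.mem_bot] at ht₀K
      exact absurd ht₀K (Invol.ne_one_of_orderOf_two ht₀2)
    · exact b
  refine ⟨_, hH, Invol.even_card_of_mem ht₀2 (hle t₀ ht₀ ht₀2 |>.trans Subgroup.le_normalizer
    (Subgroup.mem_centralizer_singleton_iff.2 rfl)), fun g hg => ?_⟩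
  refine Nat.not_even_iff_odd.1 fun he => ?_
  obtain ⟨s, hs, hs2⟩ := Invol.exists_orderOf_two_mem he
  exact se_elim hse (hK.ge (Subgroup.mem_top g)) hg hs2 (hK.ge (Subgroup.mem_top s)) hs.1
    (Invol.mem_map_conj.1 hs.2)

end Cfsg.Agent.Fus.SClosedSE
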