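import Cfsg.Agent.Lib.Transfer.RankOne.Main

/-!
# Invariant subgroups of the regular normal subgroup of a rank one group

A subgroup of `Q` invariant under the point stabiliser and containing the involutions of the
stabiliser is the group they generate or all of `Q`.
-/

set_option autoImplicit false
set_option linter.unusedSectionVars false
set_option linter.style.haveILetI false

namespace Cfsg.Agent.Fus.SClosedSE

open MulAction
open Cfsg.Agent.Transfer.RankOne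

universe u v

variable {G : Type u} {Ω : Type v} [Group G] [MulAction G Ω] [Finite G] [FaithfulSMul G Ω]
  {a : Ω} {t : G} {Q R : Subgroup G}

/-- In the nonabelian case of order `q ^ 2` the group `K` moves any element outside `Z₀` to all
others, modulo `Z₀`. -/
theorem square_trans (H : Hyp G Ω a t Q) (hsz : Nat.card Q = Nat.card (zGrp G a) ^ 2) {x y : G}
    (hx : x ∈ Q) (hxz : x ∉ zGrp G a) (hy : y ∈ Q) (hyz : y ∉ zGrp G a) :
    ∃ k ∈ kGrp a t, ∃ z ∈ zGrp G a, y = k * x * k⁻¹ * z := by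
  classical
  have hZk : ∀ k ∈ kGrp a t, ∀ r ∈ zGrp G a, k * r * k⁻¹ ∈ zGrp G a := fun k hk r hr =>
    conj_zGrp H (kGrp_le_dGrp H hk).1 hr
  have hm : ∀ p : kGrp a t × zGrp G a, (p.1 : G) * x * (p.1 : G)⁻¹ * p.2 ∈ Q ∧
      (p.1 : G) * x * (p.1 : G)⁻¹ * p.2 ∉ zGrp G a := fun p =>
    ⟨mul_mem (H.setup.conj_mem _ (kGrp_le_dGrp H p.1.2).1 x hx) (zGrp_le H p.2.2), fun h => hxz (by
      have h2 := hZk _ (inv_mem p.1.2) _ ((mul_mem_cancel_right p.2.2).1 h)
      rwa [show (p.1 : G)⁻¹ * ((p.1 : G) * x * (p.1 : G)⁻¹) * ((p.1 : G)⁻¹)⁻¹ = x by group] at h2)⟩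
  let f : kGrp a t × zGrp G a → {u : Q // (u : G) ∉ zGrp G a} := fun p => ⟨⟨_, (hm p).1⟩, (hm p).2⟩
  have hf : Function.Injective f := fun p p' h => k_orbit_inj H (zGrp_le H) hZk hx hxz
    (congrArg (fun u : {u : Q // (u : G) ∉ zGrp G a} => ((u : Q) : G)) h)
  have hc : Nat.card {u : Q // (u : G) ∉ zGrp G a} + Nat.card (zGrp G a) = Nat.card Q := by
    have h1 : Nat.card {u : Q // (u : G) ∈ zGrp G a} = Nat.card (zGrp G a) := Nat.card_congr
      { toFun := fun u => ⟨(u.1 : G), u.2⟩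
        invFun := fun z => ⟨⟨z.1, zGrp_le H z.2⟩, z.2⟩
        left_inv := fun _ => rfl
        right_inv := fun _ => rfl }
    rw [← h1, add_comm, ← Nat.card_sum]
    exact Nat.card_congr (Equiv.sumCompl _)
  have heq : Nat.card (kGrp a t × zGrp G a) = Nat.card {u : Q // (u : G) ∉ zGrp G a} := by
    rw [Nat.card_prod]
    have hK := card_kGrp H
    rw [hsz, ← hK] at hc
    rw [← hK]
    generalize Nat.card (kGrp a t) = e at hc ⊢
    rw [show (e + 1) ^ 2 = e * (e + 1) + (e + 1) by ring] at hc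
    omega
  obtain ⟨⟨k, z⟩, h⟩ := ((Nat.bijective_iff_injective_and_card f).2 ⟨hf, heq⟩).2 ⟨⟨y, hy⟩, hyz⟩
  exact ⟨k, k.2, z, z.2,
    (congrArg (fun u : {u : Q // (u : G) ∉ zGrp G a} => ((u : Q) : G)) h).symm⟩

/-- The simple case. -/
theorem mid_simple [IsSimpleGroup G] (H : Hyp G Ω a t Q) (hRQ : R ≤ Q) (hZR : zGrp G a ≤ R)
    (hR : ∀ h ∈ stabilizer G a, ∀ r ∈ R, h * r * h⁻¹ ∈ R) : R ≤ zGrp G a ∨ Q ≤ R := by
  classical
  obtain ⟨hQ2, hQ | ⟨hna, hQ | ⟨hsz, hW⟩⟩⟩ := struct_all H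
  · exact Or.inl (hRQ.trans (Subgroup.eq_of_le_of_card_ge (zGrp_le H) hQ.le).ge)
  · refine or_iff_not_imp_left.2 fun hne => ?_
    obtain ⟨x, hx, hxz⟩ := SetLike.not_le_iff_exists.1 hne
    intro y hy
    by_cases hyz : y ∈ zGrp G a
    · exact hZR hyz
    obtain ⟨k, hk, z, hz, rfl⟩ := square_trans H hQ (hRQ hx) hxz hy hyz
    exact mul_mem (hR k (kGrp_le_dGrp H hk).1 x hx) (hZR hz)
  · by_contra hcon
    push Not at hcon
    obtain ⟨x, hx, hxz⟩ := SetLike.not_le_iff_exists.1 hcon.1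
    obtain ⟨y, hy, hyR⟩ := SetLike.not_le_iff_exists.1 hcon.2
    obtain ⟨n, F, iF, iF', -, -, -, ⟨E⟩⟩ := exists_env H
    obtain ⟨w, hw, hw1⟩ := (Subgroup.bot_or_exists_ne_one _).resolve_left hW
    have hwa : w ∈ stabilizer G a := hw.1.1.1
    obtain ⟨htr, -⟩ := mid_sub H hsz hRQ (fun k hk => hR k (kGrp_le_dGrp H hk).1) hZR hx hxz hy hyR
    have hwx : w * x * w⁻¹ ∉ zGrp G a := fun h => hxz (by
      have h2 := conj_zGrp H (inv_mem hwa) h
      rwa [show w⁻¹ * (w * x * w⁻¹) * w⁻¹⁻¹ = x by group] at h2)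
    obtain ⟨k, hk, z, hz, e⟩ := htr x hx hxz _ (hR w hwa x hx) hwx
    have hfix := w_fix_of_orbit E hQ2 hna hw (hRQ hx) hxz hk hz e
    exact hxz (cq_w E hQ2 hna hsz hw hw1 (hRQ hx) hfix)

/-- A subgroup of `Q` containing `Z₀` and invariant under the stabiliser is `Z₀` or `Q`. -/
theorem mid_eq (H : Hyp G Ω a t Q) (hRQ : R ≤ Q) (hZR : zGrp G a ≤ R)
    (hR : ∀ h ∈ stabilizer G a, ∀ r ∈ R, h * r * h⁻¹ ∈ R) : (∀ r ∈ R, r * r = 1) ∨ Q ≤ R := by
  haveI := invGen_simple H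
  have HN := invGen_hyp H
  have hz : ∀ x : invGen G, x ∈ zGrp (invGen G) a → (x : G) ∈ zGrp G a := fun x hx =>
    (mem_zGrp H).2 ⟨((mem_zGrp HN).1 hx).1, congrArg Subtype.val ((mem_zGrp HN).1 hx).2⟩
  rcases mid_simple (R := R.subgroupOf (invGen G)) HN (fun x hx => hRQ hx) (fun x hx => hZR (hz x hx))
      (fun h hh r hr => hR (h : G) hh (r : G) hr) with hle | hle
  · exact Or.inl fun r hr => congrArg Subtype.val
      ((mem_zGrp HN).1 (hle (show (⟨r, q_le_invGen H (hRQ hr)⟩ : invGen G) ∈ R.subgroupOf _ from hr))).2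
  · exact Or.inr fun q hq => hle (show (⟨q, q_le_invGen H hq⟩ : invGen G) ∈ Q.subgroupOf _ from hq)

/-- The regular normal subgroup is a 2-group. -/
theorem isPGroup_regular (H : Hyp G Ω a t Q) : IsPGroup 2 Q := by
  haveI := invGen_simple H
  have h := (struct_all (invGen_hyp H)).1
  exact h.of_equiv (Subgroup.subgroupOfEquivOfLe (q_le_invGen H))

end Cfsg.Agent.Fus.SClosedSE
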