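import Cfsg.Prelude.Def_TwoFusion
import Cfsg.Agent.Lib.Fus.SClosedSE.Core
import Cfsg.Agent.Lib.Fus.SClosedSE.Mid
import Cfsg.Agent.Lib.Invol.Bender.Main
import Cfsg.Agent.Lib.Invol.Bender.Cor.Setup
import Cfsg.Agent.Lib.Invol.Bender.Complement
import Cfsg.Agent.Lib.Grp.Coprime
import Cfsg.Agent.Lib.Grp.Cores

/-!
# The rank one group of a strongly closed subgroup

`X` is normal and acts faithfully on the cosets of `H` as a group with a strongly embedded subgroup,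
every involution of `X` is conjugate to one of `S`, and a non-identity element of `S` fixes one
coset only. Then `S` lies in `X` and is either elementary or Sylow there.
-/

set_option autoImplicit false
set_option linter.unusedSectionVars false
set_option linter.style.haveILetI false

namespace Cfsg.Agent.Fus.SClosedSE

open MulAction

universe u

variable {G : Type u} [Group G] [Finite G]

/-- The data after factoring out the kernel. -/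
structure Red (T : Sylow 2 G) (S H X : Subgroup G) : Prop where
  closed : Cfsg.IsStronglyClosed S (T : Subgroup G)
  sylow_le : (T : Subgroup G) ≤ H
  proper : H ≠ ⊤
  fix : ∀ s ∈ S, s ≠ 1 → ∀ g : G, g * s * g⁻¹ ∈ H → g ∈ H
  normal : X.Normal
  cover : ∀ g : G, ∃ x ∈ X, x⁻¹ * g ∈ H
  inv : ∀ x ∈ X, orderOf x = 2 → IsAInvol S x
  rank : ∃ x ∈ X, ∃ y ∈ X, orderOf x = 2 ∧ orderOf y = 2 ∧ x ≠ y ∧ Commute x y
  faithful : ∀ m ∈ X, (∀ g : G, g * m * g⁻¹ ∈ H) → m = 1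

variable {T : Sylow 2 G} {S H X : Subgroup G}

theorem Red.fix_point (h : Red T S H X) {s g : G} (hs : s ∈ S) (hs1 : s ≠ 1)
    (hg : s • (g : G ⧸ H) = (g : G ⧸ H)) : g ∈ H := by
  have hg' : (g⁻¹ * s * g) ∈ H := by
    have h1 : ((s * g : G) : G ⧸ H) = (g : G ⧸ H) := hg
    have h2 := QuotientGroup.eq.1 h1.symm
    rwa [← mul_assoc] at h2
  exact inv_mem_iff.1 (h.fix s hs hs1 g⁻¹ (by rwa [inv_inv]))

theorem Red.fix_invol (h : Red T S H X) {y g : G} (hy : IsAInvol S y) (hyH : y ∈ H)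
    (hgy : g⁻¹ * y * g ∈ H) : g ∈ H := by
  obtain ⟨k, a, ha, ha2, rfl⟩ := hy
  have ha1 := Invol.ne_one_of_orderOf_two ha2
  have hk := h.fix a ha ha1 k hyH
  have hgk : g⁻¹ * k ∈ H := h.fix a ha ha1 _ (by
    rwa [show g⁻¹ * k * a * (g⁻¹ * k)⁻¹ = g⁻¹ * (k * a * k⁻¹) * g by group])
  have := mul_mem hgk (inv_mem hk)
  rw [mul_inv_cancel_right] at this
  exact inv_mem_iff.1 this

theorem smul_coset_eq {x g : G} : x • (g : G ⧸ H) = (g : G ⧸ H) ↔ g⁻¹ * x * g ∈ H := by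
  show ((x * g : G) : G ⧸ H) = (g : G ⧸ H) ↔ _
  rw [eq_comm, QuotientGroup.eq, mul_assoc]

theorem Red.hyp (h : Red T S H X) : Invol.Bender.Hyp ↥X (G ⧸ H) := by
  haveI : Fact (Nat.Prime 2) := ⟨Nat.prime_two⟩
  refine ⟨⟨fun c d => ?_⟩, ?_, ?_, fun i hi => ?_⟩
  · obtain ⟨g, rfl⟩ := QuotientGroup.mk_surjective c
    obtain ⟨k, rfl⟩ := QuotientGroup.mk_surjective d
    obtain ⟨x, hx, hxg⟩ := h.cover g
    obtain ⟨y, hy, hyk⟩ := h.cover k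
    refine ⟨⟨y * x⁻¹, mul_mem hy (inv_mem hx)⟩, ?_⟩
    show ((y * x⁻¹ * g : G) : G ⧸ H) = (k : G ⧸ H)
    rw [QuotientGroup.eq, show (y * x⁻¹ * g)⁻¹ * k = (x⁻¹ * g)⁻¹ * (y⁻¹ * k) by group]
    exact mul_mem (inv_mem hxg) hyk
  · obtain ⟨g, -, hg⟩ := SetLike.exists_of_lt (lt_top_iff_ne_top.2 h.proper)
    exact ⟨⟨((1 : G) : G ⧸ H), (g : G ⧸ H), fun e => hg (by simpa using QuotientGroup.eq.1 e)⟩⟩
  · obtain ⟨x, hx, -, -, hx2, -⟩ := h.rank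
    exact ⟨⟨x, hx⟩, by rwa [Subgroup.orderOf_mk]⟩
  · have hi' : orderOf (i : G) = 2 := by rwa [Subgroup.orderOf_coe]
    obtain ⟨k, hk⟩ := Invol.exists_conj_mem_sylow (n := 1) (by rw [hi', pow_one]) T
    refine ⟨((k⁻¹ : G) : G ⧸ H), smul_coset_eq.2 (by rw [inv_inv]; exact h.sylow_le hk),
      fun c hc => ?_⟩
    obtain ⟨g, rfl⟩ := QuotientGroup.mk_surjective c
    have hg : g⁻¹ * (i : G) * g ∈ H := smul_coset_eq.1 hc
    rw [QuotientGroup.eq]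
    have hI : IsAInvol S (g⁻¹ * (i : G) * g⁻¹⁻¹) := (h.inv i i.2 hi').conj g⁻¹
    rw [inv_inv] at hI
    refine h.fix_invol hI hg ?_
    rw [show (g⁻¹ * k⁻¹)⁻¹ * (g⁻¹ * (i : G) * g) * (g⁻¹ * k⁻¹) = k * (i : G) * k⁻¹ by group]
    exact h.sylow_le hk

theorem Red.faithfulSMul (h : Red T S H X) : FaithfulSMul ↥X (G ⧸ H) := by
  haveI := h.normal
  refine ⟨fun {x y} hxy => inv_mul_eq_one.1 (Subtype.ext (h.faithful _ (x⁻¹ * y).2 fun g => ?_))⟩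
  have h1 : (x⁻¹ * y) • ((g⁻¹ : G) : G ⧸ H) = ((g⁻¹ : G) : G ⧸ H) := by
    rw [mul_smul, ← hxy, inv_smul_smul]
  have := smul_coset_eq.1 (show ((x⁻¹ * y : ↥X) : G) • ((g⁻¹ : G) : G ⧸ H) = _ from h1)
  rwa [inv_inv] at this

/-- Powers of a product with a normalised factor. -/
theorem exists_pow_mul {Q D : Subgroup G} (hn : ∀ d ∈ D, ∀ q ∈ Q, d * q * d⁻¹ ∈ Q) {q d : G}
    (hq : q ∈ Q) (hd : d ∈ D) : ∀ n : ℕ, ∃ q' ∈ Q, (q * d) ^ n = q' * d ^ n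
  | 0 => ⟨1, one_mem _, by simp⟩
  | n + 1 => by
    obtain ⟨q', hq', e⟩ := exists_pow_mul hn hq hd n
    refine ⟨q' * (d ^ n * q * (d ^ n)⁻¹), mul_mem hq' (hn _ (pow_mem hd n) q hq), ?_⟩
    rw [pow_succ, e, pow_succ]
    group

/-- The regular normal subgroup is the Sylow 2-subgroup of `X` inside `T`. -/
theorem Red.map_regular_eq (h : Red T S H X) {v : ↥X} {Q : Subgroup ↥X}
    (R : Transfer.RankOne.Hyp ↥X (G ⧸ H) ((1 : G) : G ⧸ H) v Q) :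
    Q.map X.subtype = (T : Subgroup G) ⊓ X := by
  haveI : Fact (Nat.Prime 2) := ⟨Nat.prime_two⟩
  haveI := h.normal
  haveI := h.faithfulSMul
  have hle : (T : Subgroup G).subgroupOf X ≤ Q := by
    intro x hx
    have hxa : x ∈ stabilizer ↥X ((1 : G) : G ⧸ H) :=
      mem_stabilizer_iff.2 (smul_coset_eq.2 (by simpa using h.sylow_le hx))
    obtain ⟨q, hq, d, hd, rfl⟩ := Lie.RankOne.exists_qd R.setup hxa
    obtain ⟨k, hk⟩ := T.isPGroup' ⟨_, hx⟩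
    have hk' : (q * d) ^ 2 ^ k = 1 := Subtype.ext (by simpa using congrArg Subtype.val hk)
    obtain ⟨q', hq', e⟩ := exists_pow_mul (D := stabilizer ↥X ((1 : G) : G ⧸ H) ⊓
      stabilizer ↥X (v • ((1 : G) : G ⧸ H)))
      (fun d hd q hq => R.setup.conj_mem d hd.1 q hq) hq hd (2 ^ k)
    rw [hk'] at e
    have hdk : d ^ 2 ^ k ∈ Q := by
      rw [eq_inv_of_mul_eq_one_right e.symm]; exact inv_mem hq'
    have hdk' : d ^ 2 ^ k = 1 := Subgroup.mem_bot.1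
      (R.setup.inf_eq_bot ▸ Subgroup.mem_inf.2 ⟨hdk, pow_mem hd.2 _⟩)
    have hd1 : d = 1 := Invol.Bender.eq_one_of_two_pow_of_odd
      (R.setup.odd_card.of_dvd_nat (Subgroup.orderOf_dvd_natCard _ hd)) hdk'
    rw [hd1, mul_one]
    exact hq
  let P : Sylow 2 ↥X := (T.isPGroup'.comap_subtype (K := X)).toSylow
    (Grp.sylow_inf_normal_relIndex T X)
  have hQ : Q = (T : Subgroup G).subgroupOf X := P.is_maximal' (isPGroup_regular R) hle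
  rw [hQ, Subgroup.subgroupOf_map_subtype]

/-- An element of `S` lies in `X`. -/
theorem Red.mem_X (h : Red T S H X) {v : ↥X} {Q : Subgroup ↥X}
    (R : Transfer.RankOne.Hyp ↥X (G ⧸ H) ((1 : G) : G ⧸ H) v Q) {s : G} (hs : s ∈ S) : s ∈ X := by
  haveI : Fact (Nat.Prime 2) := ⟨Nat.prime_two⟩
  haveI := h.normal
  haveI := h.faithfulSMul
  have hQT := h.map_regular_eq R
  obtain ⟨α, hα⟩ : ∃ α : G ⧸ H, α = ((1 : G) : G ⧸ H) := ⟨_, rfl⟩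
  rw [← hα] at R
  obtain ⟨β, hβdef⟩ : ∃ β : G ⧸ H, β = v • α := ⟨_, rfl⟩
  have hβ : β ≠ α := hβdef ▸ Lie.RankOne.b_ne R.setup
  have hfixα : ∀ x ∈ H, x • α = α := fun x hx => by
    rw [hα]; exact smul_coset_eq.2 (by simpa using hx)
  have hsH := h.sylow_le (h.closed.1 hs)
  obtain ⟨q, hq, hqe⟩ : ∃ q ∈ Q, q • β = s • β := by
    obtain ⟨q, hq, e⟩ := Lie.RankOne.exists_q R.setup
      (c := s • β) (fun e => hβ (smul_left_cancel s (e.trans (hfixα s hsH).symm)))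
    exact ⟨q, hq, by rw [hβdef] at e ⊢; exact e⟩
  obtain ⟨u, hu⟩ : ∃ u : G, u = (q : G) := ⟨_, rfl⟩
  have huTX : u ∈ (T : Subgroup G) ⊓ X := hQT ▸ ⟨q, hq, hu.symm⟩
  have hmemQ : ∀ w : ↥X, w ∈ Q ↔ (w : G) ∈ (T : Subgroup G) := fun w => by
    refine ⟨fun hw => ?_, fun hw => ?_⟩
    · exact ((hQT ▸ (⟨w, hw, rfl⟩ : (w : G) ∈ Q.map X.subtype)) : (w : G) ∈ (T : Subgroup G) ⊓ X).1
    · obtain ⟨w', hw', e⟩ : (w : G) ∈ Q.map X.subtype := hQT.symm ▸ ⟨hw, w.2⟩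
      rwa [← Subtype.ext e]
  obtain ⟨τ, hτ⟩ : ∃ τ : G, τ = u⁻¹ * s := ⟨_, rfl⟩
  have hτT : τ ∈ (T : Subgroup G) := hτ ▸ mul_mem (inv_mem huTX.1) (h.closed.1 hs)
  have hτα : τ • α = α := hfixα τ (h.sylow_le hτT)
  have hτβ : τ • β = β := by
    rw [hτ, mul_smul, ← hqe, hu]
    exact inv_smul_smul (q : G) β
  -- the subgroup `S₀` and the two point stabiliser
  obtain ⟨U, hU⟩ : ∃ U : Subgroup G, U = (T : Subgroup G) ⊓ X := ⟨_, rfl⟩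
  rw [← hU] at huTX
  have huU : u ∈ U := huTX
  obtain ⟨S₀, hS₀⟩ : ∃ S₀ : Subgroup G, S₀ = S ⊓ X := ⟨_, rfl⟩
  have hS₀U : S₀ ≤ U := hS₀ ▸ hU ▸ inf_le_inf h.closed.1 le_rfl
  obtain ⟨E, hE⟩ : ∃ E : Subgroup G, E = X ⊓ (stabilizer G α ⊓ stabilizer G β) := ⟨_, rfl⟩
  have hEU : ∀ e ∈ E, ∀ w ∈ U, e * w * e⁻¹ ∈ U := by
    intro e he w hw
    rw [hE] at he
    rw [hU] at hw
    have h1 := R.setup.conj_mem (⟨e, he.1⟩ : ↥X)
      (mem_stabilizer_iff.2 (mem_stabilizer_iff.1 he.2.1 : e • α = α)) ⟨w, hw.2⟩ ((hmemQ _).2 hw.1)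
    rw [hU]
    exact ⟨(hmemQ _).1 h1, h.normal.conj_mem w hw.2 e⟩
  have hES₀ : ∀ e ∈ E, ∀ w ∈ S₀, e * w * e⁻¹ ∈ S₀ := by
    intro e he w hw
    have h1 := hEU e he w (hS₀U hw)
    rw [hU] at h1
    rw [hS₀] at hw ⊢
    exact ⟨h.closed.2 w hw.1 e h1.1, h1.2⟩
  have hTU : ∀ r ∈ (T : Subgroup G), ∀ w ∈ U, r * w * r⁻¹ ∈ U := by
    intro r hr w hw
    rw [hU] at hw ⊢
    exact ⟨(T : Subgroup G).mul_mem ((T : Subgroup G).mul_mem hr hw.1) ((T : Subgroup G).inv_mem hr),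
      h.normal.conj_mem w hw.2 r⟩
  have hTS₀ : ∀ r ∈ (T : Subgroup G), ∀ w ∈ S₀, r * w * r⁻¹ ∈ S₀ := by
    intro r hr w hw
    have h1 := hTU r hr w (hS₀U hw)
    rw [hU] at h1
    rw [hS₀] at hw ⊢
    exact ⟨h.closed.2 w hw.1 r h1.1, h1.2⟩
  have hUT : U ≤ (T : Subgroup G) := hU ▸ inf_le_left
  have htrans : ∀ x y z : G, x * y⁻¹ ∈ S₀ → y * z⁻¹ ∈ S₀ → x * z⁻¹ ∈ S₀ := fun x y z h1 h2 => by
    rw [show x * z⁻¹ = (x * y⁻¹) * (y * z⁻¹) by group]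
    exact mul_mem h1 h2
  -- `τ` acts on `U / S₀` as the inner automorphism of `u⁻¹`
  have hsmod : ∀ w ∈ U, s * w * s⁻¹ * w⁻¹ ∈ S₀ := by
    intro w hw
    rw [hS₀]
    have h1 : w * s⁻¹ * w⁻¹ ∈ S := h.closed.2 _ (inv_mem hs) w
      (mul_mem (mul_mem (hUT hw) (inv_mem (h.closed.1 hs))) (inv_mem (hUT hw)))
    have h2 := hTU s (h.closed.1 hs) w hw
    rw [hU] at hw h2
    refine ⟨?_, X.mul_mem h2.2 (X.inv_mem hw.2)⟩
    rw [show s * w * s⁻¹ * w⁻¹ = s * (w * s⁻¹ * w⁻¹) by group]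
    exact mul_mem hs h1
  have hτmod : ∀ w ∈ U, τ * w * τ⁻¹ * (u⁻¹ * w * u)⁻¹ ∈ S₀ := by
    intro w hw
    have h1 := hTS₀ u⁻¹ (inv_mem (hUT huU)) _ (hsmod w hw)
    rwa [hτ, show u⁻¹ * s * w * (u⁻¹ * s)⁻¹ * (u⁻¹ * w * u)⁻¹ =
      u⁻¹ * (s * w * s⁻¹ * w⁻¹) * u⁻¹⁻¹ by group]
  have hτmod' : ∀ w ∈ U, τ⁻¹ * w * τ * (u * w * u⁻¹)⁻¹ ∈ S₀ := by
    intro w hw
    have hwU : u * w * u⁻¹ ∈ U := mul_mem (mul_mem huU hw) (inv_mem huU)
    have h1 := hTS₀ τ⁻¹ (inv_mem hτT) _ (hτmod _ hwU)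
    have h2 := inv_mem h1
    rwa [show (τ⁻¹ * (τ * (u * w * u⁻¹) * τ⁻¹ * (u⁻¹ * (u * w * u⁻¹) * u)⁻¹) * τ⁻¹⁻¹)⁻¹ =
      τ⁻¹ * w * τ * (u * w * u⁻¹)⁻¹ by group] at h2
  -- the elements acting trivially on `U / S₀`
  let C : Subgroup G :=
    { carrier := {e | e ∈ E ∧ ∀ w ∈ U, e * w * e⁻¹ * w⁻¹ ∈ S₀}
      one_mem' := ⟨one_mem _, fun w _ => by simp⟩
      mul_mem' := fun {a b} ha hb => ⟨mul_mem ha.1 hb.1, fun w hw => by
        have h1 := ha.2 _ (hEU b hb.1 w hw)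
        have h2 := mul_mem h1 (hb.2 w hw)
        rwa [show a * (b * w * b⁻¹) * a⁻¹ * (b * w * b⁻¹)⁻¹ * (b * w * b⁻¹ * w⁻¹) =
          a * b * w * (a * b)⁻¹ * w⁻¹ by group] at h2⟩
      inv_mem' := fun {a} ha => ⟨inv_mem ha.1, fun w hw => by
        have h1 := inv_mem (ha.2 _ (hEU _ (inv_mem ha.1) w hw))
        rwa [show (a * (a⁻¹ * w * a⁻¹⁻¹) * a⁻¹ * (a⁻¹ * w * a⁻¹⁻¹)⁻¹)⁻¹ =
          a⁻¹ * w * a⁻¹⁻¹ * w⁻¹ by group] at h1⟩ }
  have hEodd : Odd (Nat.card E) := by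
    refine Nat.not_even_iff_odd.1 fun he => ?_
    obtain ⟨x, hx, hx2⟩ := Invol.exists_orderOf_two_mem he
    rw [hE] at hx
    exact hβ (h.hyp.fix_unique (⟨x, hx.1⟩ : ↥X) (by rwa [Subgroup.orderOf_mk]) β α
      (mem_stabilizer_iff.1 hx.2.2 : x • β = β) (mem_stabilizer_iff.1 hx.2.1 : x • α = α))
  have hτE : ∀ e ∈ E, τ * e * τ⁻¹ ∈ E := by
    intro e he
    rw [hE] at he ⊢
    refine ⟨h.normal.conj_mem e he.1 τ, mem_stabilizer_iff.2 ?_, mem_stabilizer_iff.2 ?_⟩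
    · rw [mul_smul, mul_smul, inv_smul_eq_iff.2 hτα.symm, mem_stabilizer_iff.1 he.2.1, hτα]
    · rw [mul_smul, mul_smul, inv_smul_eq_iff.2 hτβ.symm, mem_stabilizer_iff.1 he.2.2, hτβ]
  have hcomm : ∀ e ∈ E, τ * e * τ⁻¹ * e⁻¹ ∈ C := by
    intro e he
    obtain ⟨f, hf⟩ : ∃ f, f = τ * e * τ⁻¹ * e⁻¹ := ⟨_, rfl⟩
    rw [← hf]
    have hfE : f ∈ E := hf ▸ mul_mem (hτE e he) (inv_mem he)
    obtain ⟨c, hc⟩ : ∃ c, c = u⁻¹ * (e * u * e⁻¹) := ⟨_, rfl⟩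
    have hcU : c ∈ U := hc ▸ mul_mem (inv_mem huU) (hEU e he u huU)
    have hfc : ∀ w ∈ U, f * w * f⁻¹ * (c * w * c⁻¹)⁻¹ ∈ S₀ := by
      intro w hw
      obtain ⟨w₁, hw₁⟩ : ∃ w₁, w₁ = e⁻¹ * w * e⁻¹⁻¹ := ⟨_, rfl⟩
      have hw₁U : w₁ ∈ U := hw₁ ▸ hEU _ (inv_mem he) w hw
      have hu₁ : u * w₁ * u⁻¹ ∈ U := mul_mem (mul_mem huU hw₁U) (inv_mem huU)
      have h1 := hTS₀ τ hτT _ (hES₀ e he _ (hτmod' w₁ hw₁U))
      have h2 := hτmod _ (hEU e he _ hu₁)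
      have h3 := mul_mem h1 h2
      rwa [show τ * (e * (τ⁻¹ * w₁ * τ * (u * w₁ * u⁻¹)⁻¹) * e⁻¹) * τ⁻¹ *
          (τ * (e * (u * w₁ * u⁻¹) * e⁻¹) * τ⁻¹ * (u⁻¹ * (e * (u * w₁ * u⁻¹) * e⁻¹) * u)⁻¹) =
        f * w * f⁻¹ * (c * w * c⁻¹)⁻¹ by rw [hf, hc, hw₁]; group] at h3
    have hpow : ∀ n : ℕ, ∀ w ∈ U, f ^ n * w * (f ^ n)⁻¹ * (c ^ n * w * (c ^ n)⁻¹)⁻¹ ∈ S₀ := by
      intro n
      induction n with
      | zero => intro w _; simp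
      | succ n ih =>
        intro w hw
        have hm : c ^ n * w * (c ^ n)⁻¹ ∈ U :=
          mul_mem (mul_mem (pow_mem hcU n) hw) (inv_mem (pow_mem hcU n))
        have h1 := hES₀ f hfE _ (ih w hw)
        have h2 := htrans _ _ _ (show f ^ (n + 1) * w * (f ^ (n + 1))⁻¹ *
          (f * (c ^ n * w * (c ^ n)⁻¹) * f⁻¹)⁻¹ ∈ S₀ by
            rwa [show f * (f ^ n * w * (f ^ n)⁻¹ * (c ^ n * w * (c ^ n)⁻¹)⁻¹) * f⁻¹ =
              f ^ (n + 1) * w * (f ^ (n + 1))⁻¹ * (f * (c ^ n * w * (c ^ n)⁻¹) * f⁻¹)⁻¹ by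
                rw [pow_succ']; group] at h1) (hfc _ hm)
        rwa [show c * (c ^ n * w * (c ^ n)⁻¹) * c⁻¹ = c ^ (n + 1) * w * (c ^ (n + 1))⁻¹ by
          rw [pow_succ']; group] at h2
    obtain ⟨k, hk⟩ := T.isPGroup' ⟨c, hUT hcU⟩
    have hck : c ^ 2 ^ k = 1 := congrArg Subtype.val hk
    have hfk : f ^ 2 ^ k ∈ C := ⟨pow_mem hfE _, fun w hw => by
      have := hpow (2 ^ k) w hw
      simpa [hck] using this⟩
    obtain ⟨m, hm⟩ := exists_pow_eq_self_of_coprime (n := 2 ^ k) (x := f)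
      ((Nat.coprime_two_left.2 (hEodd.of_dvd_nat (Subgroup.orderOf_dvd_natCard _ hfE))).pow_left k)
    rw [← hm]
    exact pow_mem hfk m
  have hτC : ∀ x ∈ C, τ * x * τ⁻¹ ∈ C := fun x hx => by
    have := mul_mem (hcomm x hx.1) hx
    rwa [inv_mul_cancel_right] at this
  have hEC : ∀ e ∈ E, ∀ x ∈ C, e * x * e⁻¹ ∈ C := fun e he x hx =>
    ⟨mul_mem (mul_mem he hx.1) (inv_mem he), fun w hw => by
      have h1 := hES₀ e he _ (hx.2 _ (hEU _ (inv_mem he) w hw))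
      rwa [show e * (x * (e⁻¹ * w * e⁻¹⁻¹) * x⁻¹ * (e⁻¹ * w * e⁻¹⁻¹)⁻¹) * e⁻¹ =
        e * x * e⁻¹ * w * (e * x * e⁻¹)⁻¹ * w⁻¹ by group] at h1⟩
  have norm : ∀ {K : Subgroup G} {y : G}, (∀ x ∈ K, y * x * y⁻¹ ∈ K) →
      y ∈ Subgroup.normalizer (K : Set G) := fun {K y} hy => by
    rw [Subgroup.mem_normalizer_iff_map_conj_eq]
    refine Subgroup.eq_of_le_of_card_ge ?_
      (Subgroup.card_map_of_injective (K := K) (f := (MulAut.conj y : G →* G)) (MulAut.conj y).injective).ge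
    rintro _ ⟨x, hx, rfl⟩
    exact hy x hx
  -- a non-trivial element of `K`
  obtain ⟨k, hk, hk1⟩ := Transfer.RankOne.exists_k_ne R
  have hkD := Transfer.RankOne.kGrp_le_dGrp R hk
  have hkE : (k : G) ∈ E := by
    rw [hE]
    refine ⟨k.2, mem_stabilizer_iff.2 (mem_stabilizer_iff.1 hkD.1 : k • α = α), mem_stabilizer_iff.2 ?_⟩
    rw [hβdef]
    exact (mem_stabilizer_iff.1 hkD.2 : k • (v • α) = v • α)
  have hτpow : IsPGroup 2 (Subgroup.zpowers τ) := T.isPGroup'.to_le (Subgroup.zpowers_le.2 hτT)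
  have hcopE : ∀ {K : Subgroup G}, K ≤ E → (Nat.card (Subgroup.zpowers τ)).Coprime (Nat.card K) := by
    intro K hK
    obtain ⟨j, hj⟩ := hτpow.exists_card_eq
    rw [hj]
    exact (Nat.coprime_two_left.2 (hEodd.of_dvd_nat (Subgroup.card_dvd_of_le hK))).pow_left j
  obtain ⟨d, ⟨hdE, hdτ⟩, hd⟩ := Grp.exists_fixed_rep (Subgroup.zpowers τ) E C
    (Subgroup.zpowers_le.2 (norm hτE))
    (Subgroup.disjoint_of_coprime_natCard (hcopE le_rfl)).eq_bot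
    (hcopE fun x hx => hx.1)
    (Or.inl (Group.isSolvable_of_comm fun a b => by
      obtain ⟨a, i, rfl⟩ := a
      obtain ⟨b, j, rfl⟩ := b
      exact Subtype.ext ((Commute.refl τ).zpow_zpow i j).eq))
    (fun x hx => hx.1) (fun e he => norm (hEC e he)) (Subgroup.zpowers_le.2 (norm hτC))
    hkE (fun a ha => by
      have key : ∀ i : ℕ, τ ^ i * (k : G) * (τ ^ i)⁻¹ * (k : G)⁻¹ ∈ C := by
        intro i
        induction i with
        | zero => simp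
        | succ i ih =>
          have h1 := mul_mem (hτC _ ih) (hcomm _ hkE)
          rwa [show τ * (τ ^ i * (k : G) * (τ ^ i)⁻¹ * (k : G)⁻¹) * τ⁻¹ *
            (τ * (k : G) * τ⁻¹ * (k : G)⁻¹) =
            τ ^ (i + 1) * (k : G) * (τ ^ (i + 1))⁻¹ * (k : G)⁻¹ by rw [pow_succ']; group] at h1
      obtain ⟨i, rfl⟩ := Submonoid.mem_powers_iff a τ |>.1
        ((isOfFinOrder_of_finite τ).mem_powers_iff_mem_zpowers.2 ha)
      exact key i)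
  have hdτ' : d * τ = τ * d :=
    (Subgroup.mem_centralizer_iff.1 hdτ τ (Subgroup.mem_zpowers τ)).symm
  have hdu : d * u * d⁻¹ * u⁻¹ ∈ S₀ := by
    have h1 := hEU d hdE u huU
    have e1 : d * s * d⁻¹ = d * u * d⁻¹ * u⁻¹ * s := by
      have es : s = u * τ := by rw [hτ, mul_inv_cancel_left]
      calc d * s * d⁻¹ = d * u * d⁻¹ * (d * τ) * d⁻¹ := by rw [es]; group
        _ = d * u * d⁻¹ * τ := by rw [hdτ']; group
        _ = _ := by rw [hτ]; group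
    have h2 := h.closed.2 s hs d (by
      rw [e1]; exact mul_mem (mul_mem (hUT h1) (inv_mem (hUT huU))) (h.closed.1 hs))
    rw [e1] at h2
    rw [hS₀]
    refine ⟨(mul_mem_cancel_right hs).1 h2, ?_⟩
    rw [hU] at h1 huU
    exact X.mul_mem h1.2 (X.inv_mem huU.2)
  have hku : (k : G) * u * (k : G)⁻¹ * u⁻¹ ∈ S₀ := by
    obtain ⟨f, hf⟩ : ∃ f, f = ((k : G)⁻¹ * d)⁻¹ := ⟨_, rfl⟩
    have hfC : f ∈ C := hf ▸ inv_mem hd
    have h1 := mul_mem (hES₀ d hdE _ (hfC.2 u huU)) hdu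
    rwa [show d * (f * u * f⁻¹ * u⁻¹) * d⁻¹ * (d * u * d⁻¹ * u⁻¹) =
      (k : G) * u * (k : G)⁻¹ * u⁻¹ by rw [hf]; group] at h1
  -- so `u` is in `S`
  have huS : u ∈ S := by
    have hR := Transfer.RankOne.k_sub_fpf R (R := S.subgroupOf X)
      (fun w hw => (hmemQ w).2 (h.closed.1 hw))
      (fun c hc w hw => by
        have h1 := R.setup.conj_mem c (Transfer.RankOne.kGrp_le_dGrp R hc).1 w ((hmemQ w).2 (h.closed.1 hw))
        exact h.closed.2 _ hw (c : G) ((hmemQ _).1 h1))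
      hk hk1 hq ?_
    · rw [hu]; exact hR
    show (q : G)⁻¹ * ((k : G) * q * (k : G)⁻¹) ∈ S
    rw [← hu, show u⁻¹ * ((k : G) * u * (k : G)⁻¹) =
      u⁻¹ * ((k : G) * u * (k : G)⁻¹ * u⁻¹) * u⁻¹⁻¹ by group]
    have h1 := hTS₀ u⁻¹ (inv_mem (hUT huU)) _ hku
    rw [hS₀] at h1
    exact h1.1
  have hτ1 : τ = 1 := by
    by_contra hτ1
    obtain ⟨g, hg⟩ := QuotientGroup.mk_surjective β
    have := h.fix_point (s := τ) (g := g) (hτ ▸ mul_mem (inv_mem huS) hs) hτ1 (by rw [hg]; exact hτβ)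
    exact hβ (by rw [← hg, hα, QuotientGroup.eq, mul_one]; exact inv_mem this)
  rw [hτ] at hτ1
  rw [← inv_mul_eq_one.1 hτ1, hu]
  exact q.2

/-- `S` lies in `X` and is elementary or Sylow there. -/
theorem Red.main (h : Red T S H X) :
    S ≤ X ∧ ((∀ x ∈ (T : Subgroup G), x ∈ X → x ∈ S) ∨ ∀ s ∈ S, s * s = 1) := by
  haveI : Fact (Nat.Prime 2) := ⟨Nat.prime_two⟩
  haveI := h.normal
  haveI := h.faithfulSMul
  have U := h.hyp
  obtain ⟨g, -, hg⟩ := SetLike.exists_of_lt (lt_top_iff_ne_top.2 h.proper)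
  have hne : ((1 : G) : G ⧸ H) ≠ (g : G ⧸ H) := fun e => hg (by simpa using QuotientGroup.eq.1 e)
  obtain ⟨v, hv⟩ := U.exists_swap_pair hne
  have hr : Invol.Bender.TwoRank (⊤ : Subgroup ↥X) := by
    obtain ⟨x, hx, y, hy, hx2, hy2, hxy, hc⟩ := h.rank
    exact ⟨⟨x, hx⟩, Subgroup.mem_top _, ⟨y, hy⟩, Subgroup.mem_top _, by rwa [Subgroup.orderOf_mk],
      by rwa [Subgroup.orderOf_mk], fun e => hxy (congrArg Subtype.val e), Subtype.ext hc⟩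
  obtain ⟨Q, R⟩ := Invol.Bender.exists_rankOne U hr
    (Invol.Bender.Cor.split_top Invol.Bender.below U hr) hne hv
  have hSX : S ≤ X := fun s hs => h.mem_X R hs
  refine ⟨hSX, ?_⟩
  have hQT := h.map_regular_eq R
  have hmemQ : ∀ w : ↥X, w ∈ Q ↔ (w : G) ∈ (T : Subgroup G) := fun w => by
    refine ⟨fun hw => ?_, fun hw => ?_⟩
    · exact ((hQT ▸ (⟨w, hw, rfl⟩ : (w : G) ∈ Q.map X.subtype)) : (w : G) ∈ (T : Subgroup G) ⊓ X).1
    · obtain ⟨w', hw', e⟩ : (w : G) ∈ Q.map X.subtype := hQT.symm ▸ ⟨hw, w.2⟩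
      rwa [← Subtype.ext e]
  refine (mid_eq R (R := S.subgroupOf X) (fun w hw => (hmemQ w).2 (h.closed.1 hw)) ?_ ?_).elim
    (fun hM => Or.inr fun s hs => congrArg Subtype.val (hM ⟨s, hSX hs⟩ hs))
    (fun hM => Or.inl fun x hxT hxX => hM ((hmemQ ⟨x, hxX⟩).2 hxT))
  · intro z hz
    have hzT := (hmemQ z).1 (Transfer.RankOne.zGrp_le R hz)
    have hz2 : (z : G) * z = 1 := congrArg Subtype.val ((Transfer.RankOne.mem_zGrp R).1 hz).2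
    show (z : G) ∈ S
    by_cases hz1 : (z : G) = 1
    · rw [hz1]; exact one_mem _
    obtain ⟨c, a, ha, -, e⟩ := h.inv z z.2 (Invol.orderOf_two_iff.2 ⟨hz2, hz1⟩)
    exact e ▸ h.closed.2 a ha c (e ▸ hzT)
  · intro c hc w hw
    have h1 := R.setup.conj_mem c hc w ((hmemQ w).2 (h.closed.1 hw))
    exact h.closed.2 _ hw (c : G) ((hmemQ _).1 h1)

end Cfsg.Agent.Fus.SClosedSE
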