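import Cfsg.Prelude.Def_CaseTheorems
import Cfsg.Agent.Lib.Fus.SClosedSE.Main
import Cfsg.Agent.Lib.Fus.SClosedSE.Regular
import Cfsg.Agent.Lib.Fus.ClosedPair.RankOneMain
import Cfsg.Agent.S1250

/-!
# A local overgroup of a strongly closed 2-subgroup

With Aschbacher's criterion as a hypothesis: a proper subgroup containing the centralisers of the
non-identity elements of a strongly closed 2-subgroup `S` and the normaliser of the subgroup
generated by its involutions meets the normal closure `X` of `S` in a strongly embedded subgroup,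
and `S` is Sylow in `X` or generated by the involutions of a Sylow subgroup of `X`.
-/

set_option autoImplicit false
set_option linter.style.haveILetI false

namespace Cfsg.Agent.Fus.SClosedSE

open Subgroup

universe u

set_option linter.unusedSectionVars false

variable {G : Type u} [Group G] [Finite G] {T : Sylow 2 G} {S H : Subgroup G}

/-- The hypotheses of the statement give the standing data. -/
theorem hyp_of_omega (hS : S ≠ ⊥) (hsc : Cfsg.IsStronglyClosed S (T : Subgroup G)) (hH : H ≠ ⊤)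
    (hC : ∀ s ∈ S, s ≠ 1 → Subgroup.centralizer ({s} : Set G) ≤ H)
    (hN : Subgroup.normalizer ((Cfsg.omegaOne 2 S : Subgroup G) : Set G) ≤ H) : Hyp T S H := by
  refine ⟨hsc, hS, hH, fun a ha ha2 => hC a ha (Invol.ne_one_of_orderOf_two ha2), fun g hg => hN ?_⟩
  rw [Subgroup.mem_normalizer_iff_map_conj_eq]
  refine Subgroup.eq_of_le_of_card_ge ?_ (Subgroup.card_map_of_injective (K := Cfsg.omegaOne 2 S)
    (f := (MulAut.conj g : G →* G)) (MulAut.conj g).injective).ge
  rw [Cfsg.omegaOne, MonoidHom.map_closure]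
  refine Subgroup.closure_mono ?_
  rintro _ ⟨x, ⟨hx, hx2⟩, rfl⟩
  refine ⟨?_, by rw [← map_pow, hx2, map_one]⟩
  simp only [MonoidHom.coe_coe, MulAut.conj_apply]
  by_cases hx1 : x = 1
  · simp [hx1]
  · exact hg x hx (Invol.orderOf_two_iff.2 ⟨by rwa [← sq], hx1⟩)

/-- A non-identity element of `S` has no conjugate in `H` under an element outside `H`. -/
theorem Hyp.fix_ne (h : Hyp T S H) {a g : G} (ha : a ∈ S) (ha1 : a ≠ 1)
    (hg : g * a * g⁻¹ ∈ H) : g ∈ H := by
  haveI : Fact (Nat.Prime 2) := ⟨Nat.prime_two⟩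
  have h2 : IsPGroup 2 (Subgroup.zpowers a) := h.isPGroup.to_le (Subgroup.zpowers_le.2 ha)
  obtain ⟨m, hm⟩ := Invol.exists_conj_subset_sylow
    ((h2.map (MulAut.conj g : G →* G)).comap_subtype (K := H)) (T.subtype h.sylow_le)
  have hmem : (⟨g * a * g⁻¹, hg⟩ : ↥H) ∈
      ((Subgroup.zpowers a).map (MulAut.conj g : G →* G)).comap H.subtype :=
    ⟨a, Subgroup.mem_zpowers a, by simp⟩
  have h1 : (m : G) * (g * a * g⁻¹) * (m : G)⁻¹ ∈ (T : Subgroup G) := hm _ hmem
  have hmT : (m : G) * g * a * ((m : G) * g)⁻¹ ∈ (T : Subgroup G) := by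
    rwa [show (m : G) * g * a * ((m : G) * g)⁻¹ = (m : G) * (g * a * g⁻¹) * (m : G)⁻¹ by group]
  have := h.control ha ha1 (h.closed.2 a ha _ hmT)
  simpa using mul_mem (inv_mem m.2) this

/-- With one involution no criterion is needed. -/
theorem overgroup_rankOne (h : Hyp T S H)
    (huniq : ∀ u ∈ S, ∀ v ∈ S, orderOf u = 2 → orderOf v = 2 → u = v) :
    Cfsg.IsStronglyEmbedded (H.subgroupOf (Subgroup.normalClosure (S : Set G))) ∧
      S = (T : Subgroup G) ⊓ Subgroup.normalClosure (S : Set G) := by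
  haveI : Fact (Nat.Prime 2) := ⟨Nat.prime_two⟩
  have hle := ClosedPair.inf_normalClosure_le_of_unique T S h.closed huniq
  refine ⟨?_, le_antisymm (le_inf h.closed.1 Subgroup.subset_normalClosure) hle⟩
  obtain ⟨z, hzS, hz2, -⟩ := h.exists_central
  have hzX : z ∈ Subgroup.normalClosure (S : Set G) := Subgroup.subset_normalClosure hzS
  have hX : (Subgroup.normalClosure (S : Set G)).Normal := Subgroup.normalClosure_normal
  refine se_intro (fun hXH => h.top (eq_top_iff.2 fun g _ => h.fix hzS hz2 (hXH (hX.conj_mem z hzX g))))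
    hz2 hzX (h.sylow_le (h.closed.1 hzS)) fun g _ hgH s hs2 hsX hsH hgs => hgH ?_
  obtain ⟨k, hk⟩ := Invol.exists_conj_mem_sylow (n := 1) (by rw [hs2, pow_one]) T
  have hI : IsAInvol S s := by
    refine ⟨k⁻¹, k * s * k⁻¹, hle ⟨hk, hX.conj_mem s hsX k⟩, by rw [Invol.orderOf_conj_eq, hs2], ?_⟩
    group
  exact hI.fix h hsH hgs

/-- An involution does not lie in a subgroup of odd order. -/
theorem not_mem_of_odd {M : Subgroup G} (hM : Odd (Nat.card M)) {x : G} (hx : orderOf x = 2) :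
    x ∉ M := fun hxM => Nat.not_even_iff_odd.2 hM (Invol.even_card_of_mem hx hxM)

/-- An involution of the image of a normal subgroup of odd order lifts to an involution. -/
theorem exists_invol_lift {M L : Subgroup G} [M.Normal] (hM : Odd (Nat.card M)) {y : G ⧸ M}
    (hy : y ∈ L.map (QuotientGroup.mk' M)) (hy2 : orderOf y = 2) :
    ∃ x ∈ L, orderOf x = 2 ∧ QuotientGroup.mk' M x = y := by
  obtain ⟨x, hx, rfl⟩ := hy
  have hxx : x * x ∈ M := (QuotientGroup.eq_one_iff _).1 (by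
    show QuotientGroup.mk' M (x * x) = 1
    rw [map_mul, Invol.mul_self_of_orderOf_two hy2])
  obtain ⟨j, hj⟩ := hM
  have himg : QuotientGroup.mk' M (x ^ Nat.card M) = QuotientGroup.mk' M x := by
    rw [map_pow, hj, pow_succ, pow_mul, sq, Invol.mul_self_of_orderOf_two hy2, one_pow, one_mul]
  refine ⟨x ^ Nat.card M, pow_mem hx _, Invol.orderOf_two_iff.2 ⟨?_, fun e => ?_⟩, himg⟩
  · rw [← pow_add, ← two_mul, pow_mul, sq]
    exact congrArg Subtype.val (pow_card_eq_one' (G := M) (x := ⟨x * x, hxx⟩))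
  · rw [e, map_one] at himg
    exact (Invol.orderOf_two_iff.1 hy2).2 himg.symm

/-- With two commuting involutions the criterion is used. -/
theorem overgroup_rankTwo (h : Hyp T S H)
    (hse : Cfsg.IsStronglyEmbedded
      (H.subgroupOf (Subgroup.normalClosure {a : G | a ∈ S ∧ orderOf a = 2})))
    {z w : G} (hz : z ∈ S) (hw : w ∈ S) (hz2 : orderOf z = 2) (hw2 : orderOf w = 2) (hne : z ≠ w)
    (hcomm : Commute z w) :
    Cfsg.IsStronglyEmbedded (H.subgroupOf (Subgroup.normalClosure (S : Set G))) ∧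
      (S = (T : Subgroup G) ⊓ Subgroup.normalClosure (S : Set G) ∨
        S = Cfsg.omegaOne 2 ((T : Subgroup G) ⊓ Subgroup.normalClosure (S : Set G))) := by
  classical
  haveI : Fact (Nat.Prime 2) := ⟨Nat.prime_two⟩
  obtain ⟨X, hXdef⟩ : ∃ X, X = Subgroup.normalClosure {a : G | a ∈ S ∧ orderOf a = 2} := ⟨_, rfl⟩
  rw [← hXdef] at hse
  have hXn : X.Normal := hXdef ▸ Subgroup.normalClosure_normal
  have hzX : z ∈ X := hXdef ▸ Subgroup.subset_normalClosure ⟨hz, hz2⟩
  have hwX : w ∈ X := hXdef ▸ Subgroup.subset_normalClosure ⟨hw, hw2⟩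
  have U := Invol.Bender.of_stronglyEmbedded hse
  have hconj : ∀ x ∈ X, orderOf x = 2 → ∃ c ∈ X, c * z * c⁻¹ = x := by
    intro x hx hx2
    obtain ⟨c, hc⟩ := _root_.isConj_iff.1 (U.isConj (s := (⟨z, hzX⟩ : ↥X)) (t := ⟨x, hx⟩)
      (by rwa [Subgroup.orderOf_mk]) (by rwa [Subgroup.orderOf_mk]))
    exact ⟨c, c.2, congrArg Subtype.val hc⟩
  have hinv : ∀ x ∈ X, orderOf x = 2 → IsAInvol S x := fun x hx hx2 => by
    obtain ⟨c, -, hc⟩ := hconj x hx hx2
    exact ⟨c, z, hz, hz2, hc⟩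
  have hinvT : ∀ x ∈ (T : Subgroup G), x ∈ X → x * x = 1 → x ∈ S := fun x hxT hxX hxx => by
    by_cases hx1 : x = 1
    · rw [hx1]; exact one_mem _
    · exact h.mem_of_mem_sylow (hinv x hxX (Invol.orderOf_two_iff.2 ⟨hxx, hx1⟩)) hxT
  -- the kernel
  obtain ⟨M, hMdef⟩ : ∃ M, M = X ⊓ H.normalCore := ⟨_, rfl⟩
  haveI hMn : M.Normal := hMdef ▸ ⟨fun m hm g =>
    ⟨hXn.conj_mem m hm.1 g, H.normalCore_normal.conj_mem m hm.2 g⟩⟩
  have hMH : M ≤ H := hMdef ▸ inf_le_right.trans H.normalCore_le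
  have hModd : Odd (Nat.card M) := by
    refine Nat.not_even_iff_odd.1 fun he => ?_
    obtain ⟨x, hx, hx2⟩ := Invol.exists_orderOf_two_mem he
    rw [hMdef] at hx
    refine h.top (eq_top_iff.2 fun g _ => (hinv x hx.1 hx2).fix h (H.normalCore_le hx.2) ?_)
    have h3 := hx.2 g⁻¹
    rwa [inv_inv] at h3
  obtain ⟨π, hπdef⟩ : ∃ π : G →* G ⧸ M, π = QuotientGroup.mk' M := ⟨_, rfl⟩
  have hπs : Function.Surjective π := hπdef ▸ QuotientGroup.mk'_surjective M
  have hπ1 : ∀ x : G, π x = 1 ↔ x ∈ M := fun x => hπdef ▸ QuotientGroup.eq_one_iff x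
  have hπinv : ∀ x : G, orderOf x = 2 → orderOf (π x) = 2 := fun x hx => Invol.orderOf_two_iff.2
    ⟨by rw [← map_mul, Invol.mul_self_of_orderOf_two hx, map_one],
      fun e => not_mem_of_odd hModd hx ((hπ1 x).1 e)⟩
  have hmemH : ∀ x : G, π x ∈ H.map π ↔ x ∈ H := fun x => by
    refine ⟨?_, fun hx => ⟨x, hx, rfl⟩⟩
    rintro ⟨y, hy, e⟩
    have : y⁻¹ * x ∈ M := (hπ1 _).1 (by rw [map_mul, map_inv, e, inv_mul_cancel])
    simpa using mul_mem hy (hMH this)
  have hMT : ∀ x ∈ (T : Subgroup G), x ∈ M → x = 1 := fun x hxT hxM => by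
    obtain ⟨k, hk⟩ := T.isPGroup' ⟨x, hxT⟩
    exact Invol.Bender.eq_one_of_two_pow_of_odd
      (hModd.of_dvd_nat (Subgroup.orderOf_dvd_natCard _ hxM)) (congrArg Subtype.val hk)
  have hred : Red (T.mapSurjective hπs) (S.map π) (H.map π) (X.map π) := by
    constructor
    · rw [Sylow.coe_mapSurjective hπs, hπdef]
      exact Cfsg.Agent.S1250.result T S h.closed M
    · rw [Sylow.coe_mapSurjective hπs]
      exact Subgroup.map_mono h.sylow_le
    · refine fun e => h.top (eq_top_iff.2 fun g _ => (hmemH g).1 ?_)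
      rw [e]; exact Subgroup.mem_top _
    · rintro _ ⟨s, hs, rfl⟩ hs1 g hg
      obtain ⟨g, rfl⟩ := hπs g
      rw [← map_inv, ← map_mul, ← map_mul, hmemH] at hg
      exact (hmemH g).2 (h.fix_ne hs (fun e => hs1 (by rw [e, map_one])) hg)
    · exact hXn.map π hπs
    · intro g
      obtain ⟨g, rfl⟩ := hπs g
      obtain ⟨x, hx, e⟩ := hconj (g * z * g⁻¹) (hXn.conj_mem z hzX g)
        (by rw [Invol.orderOf_conj_eq, hz2])
      refine ⟨π x, ⟨x, hx, rfl⟩, ?_⟩
      rw [← map_inv, ← map_mul, hmemH]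
      refine h.cent z hz hz2 (Subgroup.mem_centralizer_singleton_iff.2 ?_)
      calc x⁻¹ * g * z = x⁻¹ * (g * z * g⁻¹) * g := by group
        _ = x⁻¹ * (x * z * x⁻¹) * g := by rw [e]
        _ = z * (x⁻¹ * g) := by group
    · intro y hy hy2
      subst hπdef
      obtain ⟨x, hx, hx2, rfl⟩ := exists_invol_lift hModd hy hy2
      obtain ⟨c, a, ha, ha2, rfl⟩ := hinv x hx hx2
      exact ⟨QuotientGroup.mk' M c, QuotientGroup.mk' M a, ⟨a, ha, rfl⟩, hπinv a ha2, by
        rw [map_mul, map_mul, map_inv]⟩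
    · refine ⟨π z, ⟨z, hzX, rfl⟩, π w, ⟨w, hwX, rfl⟩, hπinv z hz2, hπinv w hw2, fun e => ?_,
        hcomm.map π⟩
      have hzw : orderOf (z * w) = 2 := Invol.orderOf_two_iff.2 ⟨by
        rw [mul_assoc z w, ← mul_assoc w z w, ← hcomm.eq, mul_assoc z w w,
          Invol.mul_self_of_orderOf_two hw2, mul_one, Invol.mul_self_of_orderOf_two hz2],
        Invol.mul_ne_one_of_ne hz2 hne⟩
      refine not_mem_of_odd hModd hzw ((hπ1 _).1 ?_)
      rw [map_mul, e, ← map_mul, Invol.mul_self_of_orderOf_two hw2, map_one]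
    · rintro _ ⟨m, hm, rfl⟩ hall
      refine (hπ1 m).2 (hMdef ▸ ⟨hm, fun g => ?_⟩)
      have h1 := hall (π g)
      rwa [← map_inv, ← map_mul, ← map_mul, hmemH] at h1
  obtain ⟨hSX', hcases⟩ := hred.main
  have hSX : S ≤ X := by
    intro s hs
    obtain ⟨x, hx, e⟩ := hSX' ⟨s, hs, rfl⟩
    have h1 : x⁻¹ * s ∈ X := by
      have h2 : x⁻¹ * s ∈ M := (hπ1 _).1 (by rw [map_mul, map_inv, e, inv_mul_cancel])
      rw [hMdef] at h2
      exact h2.1
    simpa using mul_mem hx h1
  have hX : Subgroup.normalClosure (S : Set G) = X := by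
    refine le_antisymm ?_ ?_
    · haveI := hXn
      exact Subgroup.normalClosure_le_normal hSX
    · rw [hXdef]
      exact Subgroup.normalClosure_mono fun a ha => ha.1
  rw [hX]
  refine ⟨hse, ?_⟩
  rcases hcases with hall | hel
  · refine Or.inl (le_antisymm (le_inf h.closed.1 hSX) fun x hx => ?_)
    obtain ⟨s, hs, e⟩ := hall (π x) (by rw [Sylow.coe_mapSurjective hπs]; exact ⟨x, hx.1, rfl⟩)
      ⟨x, hx.2, rfl⟩
    have h1 : s⁻¹ * x = 1 := hMT _ (mul_mem (inv_mem (h.closed.1 hs)) hx.1)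
      ((hπ1 _).1 (by rw [map_mul, map_inv, e, inv_mul_cancel]))
    rwa [← inv_mul_eq_one.1 h1]
  · refine Or.inr (le_antisymm (fun s hs => ?_)
      ((Subgroup.closure_le _).2 fun x hx => hinvT x hx.1.1 hx.1.2 (by rw [← sq]; exact hx.2)))
    refine Subgroup.subset_closure (show s ∈ (T : Subgroup G) ⊓ X ∧ s ^ 2 = 1 from
      ⟨⟨h.closed.1 hs, hSX hs⟩, ?_⟩)
    rw [sq]
    exact hMT _ (mul_mem (h.closed.1 hs) (h.closed.1 hs))
      ((hπ1 _).1 (by rw [map_mul]; exact hel _ ⟨s, hs, rfl⟩))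

/-- The statement on the local overgroup, with Aschbacher's criterion as a hypothesis. -/
theorem s3289_of
    (hA : ∀ {G : Type u} [Group G] [Finite G] (P : Sylow 2 G) (z : G), orderOf z = 2 →
      z ∈ (Subgroup.center ↥(P : Subgroup G)).map (P : Subgroup G).subtype → ∀ H : Subgroup G, H ≠ ⊤ →
      (∀ g : G, z ∈ H.map (MulAut.conj g).toMonoidHom ↔ g ∈ H) →
      (∀ u : G, orderOf u = 2 → u * z = z * u → ¬ Subgroup.centralizer ({u} : Set G) ≤ H →
        Cfsg.IsStronglyEmbedded (H.subgroupOf (Subgroup.closure {x : G | IsConj z x ∧ x * u = u * x}))) →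
      Cfsg.IsStronglyEmbedded (H.subgroupOf (Subgroup.normalClosure ({z} : Set G))))
    (T : Sylow 2 G) (S : Subgroup G) (hS : S ≠ ⊥) (hsc : Cfsg.IsStronglyClosed S (T : Subgroup G))
    (H : Subgroup G) (hH : H ≠ ⊤) (hC : ∀ s ∈ S, s ≠ 1 → Subgroup.centralizer ({s} : Set G) ≤ H)
    (hN : Subgroup.normalizer ((Cfsg.omegaOne 2 S : Subgroup G) : Set G) ≤ H) :
    Cfsg.IsStronglyEmbedded ((H ⊓ Subgroup.normalClosure (S : Set G)).subgroupOf
        (Subgroup.normalClosure (S : Set G))) ∧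
      (S = (T : Subgroup G) ⊓ Subgroup.normalClosure (S : Set G) ∨
        S = Cfsg.omegaOne 2 ((T : Subgroup G) ⊓ Subgroup.normalClosure (S : Set G))) ∧
      (Cfsg.PRankLE 2 1 ↥S → S = (T : Subgroup G) ⊓ Subgroup.normalClosure (S : Set G)) := by
  classical
  haveI : Fact (Nat.Prime 2) := ⟨Nat.prime_two⟩
  rw [Subgroup.inf_subgroupOf_right]
  have h := hyp_of_omega hS hsc hH hC hN
  by_cases huniq : ∀ u ∈ S, ∀ v ∈ S, orderOf u = 2 → orderOf v = 2 → u = v
  · obtain ⟨h1, h2⟩ := overgroup_rankOne h huniq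
    exact ⟨h1, Or.inl h2, fun _ => h2⟩
  obtain ⟨z, hz, hz2, hzc⟩ := h.exists_central
  obtain ⟨w, hw, hw2, hne⟩ : ∃ w ∈ S, orderOf w = 2 ∧ z ≠ w := by
    by_contra! hcon
    exact huniq fun u hu v hv hu2 hv2 => (hcon u hu hu2).symm.trans (hcon v hv hv2)
  have hcomm : Commute z w := (hzc w (h.closed.1 hw)).symm
  obtain ⟨h1, h2⟩ := overgroup_rankTwo h (holds hA _ G rfl T S H h) hz hw hz2 hw2 hne hcomm
  refine ⟨h1, h2, fun hR => ?_⟩
  exfalso
  -- the four-group contradicts the rank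
  let a : ↥S := ⟨z, hz⟩
  let b : ↥S := ⟨w, hw⟩
  have hab : Commute a b := Subtype.ext hcomm
  let A := Subgroup.closure ({a, b} : Set ↥S)
  haveI hcA : IsMulCommutative ↥A := Subgroup.isMulCommutative_closure (by
    rintro x (rfl | rfl) y (rfl | rfl)
    · rfl
    · exact hab
    · exact hab.symm
    · rfl)
  have hsq : ∀ x ∈ A, x ^ 2 = 1 := by
    intro x hx
    induction hx using Subgroup.closure_induction with
    | mem x hx =>
      rcases hx with rfl | rfl
      · exact Subtype.ext (by simpa [sq] using Invol.mul_self_of_orderOf_two hz2)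
      · exact Subtype.ext (by simpa [sq] using Invol.mul_self_of_orderOf_two hw2)
    | one => exact one_pow _
    | mul x y hx hy h1 h2 =>
      rw [(show Commute x y from congrArg Subtype.val (hcA.is_comm.comm (⟨x, hx⟩ : ↥A) ⟨y, hy⟩)).mul_pow,
        h1, h2, one_mul]
    | inv x _ h1 => rw [inv_pow, h1, inv_one]
  have hcard := hR A hcA hsq
  let f : Option Bool → ↥A := fun o => o.elim 1 fun i =>
    if i then ⟨a, Subgroup.subset_closure (Set.mem_insert _ _)⟩
    else ⟨b, Subgroup.subset_closure (Set.mem_insert_of_mem _ rfl)⟩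
  have hf : Function.Injective f := by
    have hz1 := Invol.ne_one_of_orderOf_two hz2
    have hw1 := Invol.ne_one_of_orderOf_two hw2
    rintro (_ | _ | _) (_ | _ | _) e <;> simp [f, a, b, Subtype.ext_iff] at e ⊢
    all_goals first
      | exact hz1 e | exact hz1 e.symm | exact hw1 e | exact hw1 e.symm
      | exact hne e | exact hne e.symm
  have := Nat.card_le_card_of_injective f hf
  rw [Nat.card_eq_fintype_card] at this
  simp at this
  omega

end Cfsg.Agent.Fus.SClosedSE
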